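import Cfsg.Agent.Lib.J1Order.Arith

/-!
# The shape of the four exceptional virtual characters

Everything is stated on an abstract index type: `m i` is the coefficient row of the `i`-th virtual
character, `d` the degree and `τ` a permutation exchanging rows two and three.
-/

set_option autoImplicit false
set_option linter.unusedSectionVars false
set_option linter.style.haveILetI false
set_option maxHeartbeats 1600000

namespace Cfsg.Lib.J1Order.Virtual

variable {ι : Type*} [Fintype ι] [DecidableEq ι]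

/-- The common hypotheses on the rows. -/
structure Rows (ι : Type*) [Fintype ι] where
  g : ℤ
  d : ι → ℤ
  m : Fin 4 → ι → ℤ
  one : ι
  τ : ι → ι
  τ_inj : Function.Injective τ
  d_τ : ∀ χ, d (τ χ) = d χ
  m_τ : ∀ i χ, m i (τ χ) = m (![0, 1, 3, 2] i) χ
  d_one : d one = 1
  m_one : ∀ i, m i one = ![1, 0, 1, 1] i
  inner : ∀ i j, ∑ χ, m i χ * m j χ =
    ![![4, 0, 2, 2], ![0, 2, 0, 0], ![2, 0, 4, 2], ![2, 0, 2, 4]] i j
  degree : ∀ i, ∑ χ, m i χ * d χ = 0
  two_le : ∀ χ, χ ≠ one → 2 ≤ d χ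
  dvd : ∀ χ, d χ ∣ g
  sq_lt : ∀ χ, d χ * d χ < g
  value_mod : ∀ χ, (d χ - (-5 * m 0 χ + 4 * m 1 χ + 3 * m 2 χ + 3 * m 3 χ)) % 8 = 0
  eqn : ∀ i, (g : ℚ) * ∑ χ, (m i χ : ℚ) *
      ((-5 * m 0 χ + 4 * m 1 χ + 3 * m 2 χ + 3 * m 3 χ : ℤ) : ℚ) ^ 2 / (d χ : ℚ) =
    ![86400, 0, 144000, 144000] i
  g_dvd : g % 120 = 0
  g_odd : g % 16 ≠ 0

variable (R : Rows ι)

/-- The value at the central involution. -/
def Rows.T (χ : ι) : ℤ := -5 * R.m 0 χ + 4 * R.m 1 χ + 3 * R.m 2 χ + 3 * R.m 3 χ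

theorem unit_of_sq_sum {f : ι → ℤ} {s : Finset ι} {N : ℤ} (h : ∑ χ ∈ s, f χ * f χ = N) (hN : N ≤ 3)
    {χ : ι} (hχ : χ ∈ s) : f χ = 0 ∨ f χ = 1 ∨ f χ = -1 := by
  have := Finset.single_le_sum (f := fun y => f y * f y) (fun y _ => mul_self_nonneg _) hχ
  rw [h] at this
  have : f χ * f χ ≤ 3 := le_trans this hN
  have h1 : -1 ≤ f χ := by nlinarith
  have h2 : f χ ≤ 1 := by nlinarith
  omega

/-- A row of norm four: one trivial and three further constituents. -/
theorem triple {f : ι → ℤ} {d : ι → ℤ} {o : ι} (hsq : ∑ χ, f χ * f χ = 4) (ho : f o = 1)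
    (hdo : d o = 1) (hd : ∑ χ, f χ * d χ = 0) {i : ι} (hio : i ≠ o) (hi : f i ≠ 0) :
    ∃ j k, j ≠ o ∧ k ≠ o ∧ j ≠ i ∧ k ≠ i ∧ j ≠ k ∧ (f i = 1 ∨ f i = -1) ∧
      (f j = 1 ∨ f j = -1) ∧ (f k = 1 ∨ f k = -1) ∧
      (∀ χ, χ ≠ o → χ ≠ i → χ ≠ j → χ ≠ k → f χ = 0) ∧
      1 + f i * d i + f j * d j + f k * d k = 0 ∧
      ∀ H : ι → ℚ, ∑ χ, (f χ : ℚ) * H χ = H o + f i * H i + f j * H j + f k * H k := by
  set s := Finset.univ.filter fun χ => χ ≠ o ∧ f χ ≠ 0 with hs
  have hu : ∀ χ, χ ≠ o → f χ = 0 ∨ f χ = 1 ∨ f χ = -1 := by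
    intro χ hχ
    refine unit_of_sq_sum (s := Finset.univ.erase o) (N := 3) ?_ le_rfl (by simp [hχ])
    have := Finset.add_sum_erase Finset.univ (fun y => f y * f y) (Finset.mem_univ o)
    simp only [ho] at this
    linarith
  have hsum : ∀ {α : Type} [CommRing α] (H : ι → α),
      ∑ χ, (f χ : α) * H χ = H o + ∑ χ ∈ s, (f χ : α) * H χ := by
    intro α _ H
    rw [← Finset.add_sum_erase _ _ (Finset.mem_univ o), ho, Int.cast_one, one_mul]
    congr 1
    refine (Finset.sum_subset ?_ ?_).symm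
    · intro χ hχ
      simp only [hs, Finset.mem_filter] at hχ
      simp [hχ.2.1]
    · intro χ hχ hχ'
      simp only [Finset.mem_erase] at hχ
      simp only [hs, Finset.mem_filter, Finset.mem_univ, true_and, not_and, not_not] at hχ'
      simp [hχ' hχ.1]
  have hcard : s.card = 3 := by
    have h := hsum (α := ℤ) f
    simp only [Int.cast_id, hsq, ho] at h
    rw [Finset.sum_congr rfl (g := fun _ => (1 : ℤ)) (fun χ hχ => by
      simp only [hs, Finset.mem_filter] at hχ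
      rcases hu χ hχ.2.1 with e | e | e
      · exact absurd e hχ.2.2
      all_goals simp [e])] at h
    simp at h
    omega
  have his : i ∈ s := by simp [hs, hio, hi]
  obtain ⟨j, k, hjk, he⟩ := Finset.card_eq_two.1
    (show (s.erase i).card = 2 by rw [Finset.card_erase_of_mem his, hcard])
  have hj : j ∈ s.erase i := by rw [he]; simp
  have hk : k ∈ s.erase i := by rw [he]; simp
  simp only [Finset.mem_erase, hs, Finset.mem_filter, Finset.mem_univ, true_and] at hj hk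
  have hset : ∀ {α : Type} [CommRing α] (H : ι → α),
      ∑ χ, (f χ : α) * H χ = H o + f i * H i + f j * H j + f k * H k := by
    intro α _ H
    rw [hsum H, ← Finset.add_sum_erase _ _ his, he, Finset.sum_pair hjk]
    ring
  refine ⟨j, k, hj.2.1, hk.2.1, hj.1, hk.1, hjk, ?_, ?_, ?_, ?_, ?_, hset⟩
  · rcases hu i hio with e | e | e
    exacts [absurd e hi, Or.inl e, Or.inr e]
  · rcases hu j hj.2.1 with e | e | e
    exacts [absurd e hj.2.2, Or.inl e, Or.inr e]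
  · rcases hu k hk.2.1 with e | e | e
    exacts [absurd e hk.2.2, Or.inl e, Or.inr e]
  · intro χ h1 h2 h3 h4
    by_contra h5
    have : χ ∈ s.erase i := by simp [hs, h1, h2, h5]
    rw [he] at this
    simp [h3, h4] at this
  · have h := hset (α := ℤ) d
    simp only [Int.cast_id, hd, hdo] at h
    exact h.symm

/-- Two rows of norm four and inner product two share one constituent. -/
theorem common {f h : ι → ℤ} {d : ι → ℤ} {o : ι} (hd2 : ∀ χ, χ ≠ o → 0 < d χ)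
    (hf : ∑ χ, f χ * f χ = 4) (hh : ∑ χ, h χ * h χ = 4) (hfh : ∑ χ, f χ * h χ = 2)
    (hfo : f o = 1) (hho : h o = 1) (hdo : d o = 1) (hfd : ∑ χ, f χ * d χ = 0)
    (hhd : ∑ χ, h χ * d χ = 0) :
    ∃ c, c ≠ o ∧ h c = f c ∧ f c ≠ 0 ∧ ∀ χ, χ ≠ o → f χ ≠ 0 → h χ ≠ 0 → χ = c := by
  have hex : ∃ i, i ≠ o ∧ f i ≠ 0 := by
    by_contra hne
    push Not at hne
    rw [Finset.sum_eq_single o (fun χ _ hχ => by simp [hne χ hχ]) (by simp), hfo] at hf
    norm_num at hf
  obtain ⟨i, hio, hi⟩ := hex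
  obtain ⟨j, k, hjo, hko, hji, hki, hjk, ei, ej, ek, hz, hdeg, hsum⟩ :=
    triple hf hfo hdo hfd hio hi
  have h3 : f i * h i + f j * h j + f k * h k = 1 := by
    have := hsum fun χ => (h χ : ℚ)
    have e : ((∑ χ, f χ * h χ : ℤ) : ℚ) = ((2 : ℤ) : ℚ) := by rw [hfh]
    push_cast at e this
    rw [e, hho] at this
    have e2 : ((f i * h i + f j * h j + f k * h k : ℤ) : ℚ) = ((1 : ℤ) : ℚ) := by
      push_cast at this ⊢; linarith
    exact_mod_cast e2
  have hsq : 1 + h i * h i + h j * h j + h k * h k ≤ 4 := by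
    rw [← hh]
    have : ∑ χ ∈ ({o, i, j, k} : Finset ι), h χ * h χ ≤ ∑ χ, h χ * h χ :=
      Finset.sum_le_univ_sum_of_nonneg fun χ => mul_self_nonneg _
    rw [Finset.sum_insert (by simp [Ne.symm hio, Ne.symm hjo, Ne.symm hko]),
      Finset.sum_insert (by simp [Ne.symm hji, Ne.symm hki]), Finset.sum_pair hjk, hho] at this
    linarith
  have hu : ∀ {a : ι}, h a * h a ≤ 3 → h a = 0 ∨ h a = 1 ∨ h a = -1 := by
    intro a ha
    have h1 : -1 ≤ h a := by nlinarith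
    have h2 : h a ≤ 1 := by nlinarith
    omega
  have mi := mul_self_nonneg (h i)
  have mj := mul_self_nonneg (h j)
  have mk := mul_self_nonneg (h k)
  have ui := hu (a := i) (by linarith)
  have uj := hu (a := j) (by linarith)
  have uk := hu (a := k) (by linarith)
  have hnotall : h i = 0 ∨ h j = 0 ∨ h k = 0 := by
    by_contra hall
    push Not at hall
    have hz' : ∀ χ, χ ≠ o → χ ≠ i → χ ≠ j → χ ≠ k → h χ = 0 := by
      intro χ h1 h2 h4 h5
      by_contra h6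
      have : ∑ x ∈ ({o, i, j, k, χ} : Finset ι), h x * h x ≤ ∑ x, h x * h x :=
        Finset.sum_le_univ_sum_of_nonneg fun x => mul_self_nonneg _
      rw [Finset.sum_insert (by simp [Ne.symm hio, Ne.symm hjo, Ne.symm hko, Ne.symm h1]),
        Finset.sum_insert (by simp [Ne.symm hji, Ne.symm hki, Ne.symm h2]),
        Finset.sum_insert (by simp [hjk, Ne.symm h4]), Finset.sum_pair (Ne.symm h5), hho, hh] at this
      have p1 := mul_self_pos.2 hall.1
      have p2 := mul_self_pos.2 hall.2.1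
      have p3 := mul_self_pos.2 hall.2.2
      have p4 := mul_self_pos.2 h6
      omega
    have e : ∑ χ, h χ * d χ = ∑ χ ∈ ({o, i, j, k} : Finset ι), h χ * d χ :=
      (Finset.sum_subset (Finset.subset_univ _) fun χ _ hχ => by
        simp only [Finset.mem_insert, Finset.mem_singleton, not_or] at hχ
        rw [hz' χ hχ.1 hχ.2.1 hχ.2.2.1 hχ.2.2.2, zero_mul]).symm
    rw [hhd, Finset.sum_insert (by simp [Ne.symm hio, Ne.symm hjo, Ne.symm hko]),
      Finset.sum_insert (by simp [Ne.symm hji, Ne.symm hki]), Finset.sum_pair hjk, hho, hdo] at e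
    have di := hd2 i hio
    have dj := hd2 j hjo
    have dk := hd2 k hko
    have rel : ∀ {a : ι}, (f a = 1 ∨ f a = -1) → (h a = 0 ∨ h a = 1 ∨ h a = -1) → h a ≠ 0 →
        h a = f a ∨ h a = -f a := by
      intro a p q r
      omega
    have fsq : ∀ {a : ι}, (f a = 1 ∨ f a = -1) → f a * f a = 1 := by
      intro a p
      rcases p with p | p <;> simp [p]
    have si := fsq ei
    have sj := fsq ej
    have sk := fsq ek
    have zero : ∀ {a : ι}, (f a = 1 ∨ f a = -1) → 0 < d a → f a * d a = 0 → False := by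
      intro a p q r
      rcases mul_eq_zero.1 r with r | r <;> omega
    rcases rel ei ui hall.1 with ri | ri <;> rcases rel ej uj hall.2.1 with rj | rj <;>
      rcases rel ek uk hall.2.2 with rk | rk <;> rw [ri, rj, rk] at h3 e <;>
      simp only [neg_mul, mul_neg, si, sj, sk] at h3 e <;>
      first
      | omega
      | exact zero ei di (by linarith)
      | exact zero ej dj (by linarith)
      | exact zero ek dk (by linarith)
  have pick : ∀ {a b c : ι}, a ≠ o → (∀ χ, χ ≠ o → χ ≠ a → χ ≠ b → χ ≠ c → f χ = 0) →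
      h b = 0 → h c = 0 → h a = f a → f a ≠ 0 →
      ∃ c, c ≠ o ∧ h c = f c ∧ f c ≠ 0 ∧ ∀ χ, χ ≠ o → f χ ≠ 0 → h χ ≠ 0 → χ = c := by
    intro a b c hao hzz hb hc hae ha
    refine ⟨a, hao, hae, ha, fun χ h1 h2 h4 => ?_⟩
    by_contra h5
    refine h2 (hzz χ h1 h5 ?_ ?_)
    · rintro rfl; exact h4 hb
    · rintro rfl; exact h4 hc
  have cases : (h i = f i ∧ h j = 0 ∧ h k = 0) ∨ (h j = f j ∧ h i = 0 ∧ h k = 0) ∨
      (h k = f k ∧ h i = 0 ∧ h j = 0) := by
    have prod : ∀ {a : ι}, (f a = 1 ∨ f a = -1) → (h a = 0 ∨ h a = 1 ∨ h a = -1) →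
        (f a * h a = 0 ∧ h a = 0) ∨ (f a * h a = 1 ∧ h a = f a) ∨ (f a * h a = -1 ∧ h a = -f a) := by
      intro a p q
      rcases p with p | p <;> rcases q with q | q | q <;> simp [p, q]
    have pi' := prod ei ui
    have pj' := prod ej uj
    have pk' := prod ek uk
    generalize f i * h i = a at h3 pi'
    generalize f j * h j = b at h3 pj'
    generalize f k * h k = c at h3 pk'
    omega
  rcases cases with ⟨e, e1, e2⟩ | ⟨e, e1, e2⟩ | ⟨e, e1, e2⟩
  · exact pick hio hz e1 e2 e (by omega)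
  · exact pick hjo (fun χ a b c e' => hz χ a c b e') e1 e2 e (by omega)
  · exact pick hko (fun χ a b c e' => hz χ a c e' b) e1 e2 e (by omega)

/-- The row of norm two. -/
theorem pair : ∃ C D, C ≠ R.one ∧ D ≠ R.one ∧ C ≠ D ∧ R.m 1 C = 1 ∧ R.m 1 D = -1 ∧
    R.d C = R.d D ∧ (∀ χ, χ ≠ C → χ ≠ D → R.m 1 χ = 0) ∧
    ∀ i, i ≠ 1 → R.m i C = R.m i D := by
  have hsq : ∑ χ, R.m 1 χ * R.m 1 χ = 2 := by simpa using R.inner 1 1
  have ho : R.m 1 R.one = 0 := by simpa using R.m_one 1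
  have hu := fun χ => unit_of_sq_sum hsq (by norm_num) (Finset.mem_univ χ)
  set s := Finset.univ.filter fun χ => R.m 1 χ ≠ 0 with hs
  have hsum : ∀ F : ι → ℤ, ∑ χ, R.m 1 χ * F χ = ∑ χ ∈ s, R.m 1 χ * F χ := fun F =>
    (Finset.sum_subset (Finset.subset_univ _) fun χ _ hχ => by
      simp [hs] at hχ; simp [hχ]).symm
  have hcard : s.card = 2 := by
    have h := hsum (R.m 1)
    rw [hsq, Finset.sum_congr rfl (g := fun _ => (1 : ℤ)) (fun χ hχ => by
      simp only [hs, Finset.mem_filter] at hχ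
      rcases hu χ with e | e | e
      · exact absurd e hχ.2
      all_goals simp [e])] at h
    simp at h
    omega
  obtain ⟨a, b, hab, he⟩ := Finset.card_eq_two.1 hcard
  have ha : R.m 1 a ≠ 0 := by
    have : a ∈ s := by rw [he]; simp
    simpa [hs] using this
  have hb : R.m 1 b ≠ 0 := by
    have : b ∈ s := by rw [he]; simp
    simpa [hs] using this
  have hao : a ≠ R.one := fun e => ha (e ▸ ho)
  have hbo : b ≠ R.one := fun e => hb (e ▸ ho)
  have hpair : ∀ F : ι → ℤ, ∑ χ, R.m 1 χ * F χ = R.m 1 a * F a + R.m 1 b * F b := fun F => by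
    rw [hsum, he, Finset.sum_pair hab]
  have hz : ∀ χ, χ ≠ a → χ ≠ b → R.m 1 χ = 0 := fun χ h1 h2 => by
    by_contra h
    have : χ ∈ s := by simp [hs, h]
    rw [he] at this
    simp [h1, h2] at this
  have hd := hpair R.d
  rw [R.degree 1] at hd
  have da := R.two_le a hao
  have db := R.two_le b hbo
  have horth : ∀ i, i ≠ 1 → R.m 1 a * R.m i a + R.m 1 b * R.m i b = 0 := fun i hi => by
    rw [← hpair, R.inner 1 i]
    fin_cases i <;> simp at hi ⊢
  rcases hu a with ea | ea | ea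
  · exact absurd ea ha
  all_goals rcases hu b with eb | eb | eb
  all_goals (try exact absurd eb hb)
  all_goals rw [ea, eb] at hd
  all_goals (try (exfalso; omega))
  · exact ⟨a, b, hao, hbo, hab, ea, eb, by omega, hz, fun i hi => by
      have := horth i hi; rw [ea, eb] at this; omega⟩
  · exact ⟨b, a, hbo, hao, Ne.symm hab, eb, ea, by omega, fun χ h1 h2 => hz χ h2 h1, fun i hi => by
      have := horth i hi; rw [ea, eb] at this; omega⟩

theorem partner {χ : ι} (h : R.m 1 χ ≠ 0) :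
    ∃ ψ, ψ ≠ χ ∧ ψ ≠ R.one ∧ R.m 1 ψ = -R.m 1 χ ∧ R.d ψ = R.d χ ∧
      ∀ i, i ≠ 1 → R.m i ψ = R.m i χ := by
  obtain ⟨C, D, hC, hD, hCD, eC, eD, hd, hz, hm⟩ := pair R
  by_cases h1 : χ = C
  · subst h1
    exact ⟨D, Ne.symm hCD, hD, by omega, hd.symm, fun i hi => (hm i hi).symm⟩
  by_cases h2 : χ = D
  · subst h2
    exact ⟨C, hCD, hC, by omega, hd, hm⟩
  exact absurd (hz χ h1 h2) h

theorem partner_unique {a b c : ι} (ha : R.m 1 a ≠ 0) (hb : R.m 1 b ≠ 0) (hc : R.m 1 c ≠ 0) :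
    a = b ∨ a = c ∨ b = c := by
  obtain ⟨C, D, -, -, -, -, -, -, hz, -⟩ := pair R
  have : ∀ χ, R.m 1 χ ≠ 0 → χ = C ∨ χ = D := fun χ h => by
    by_contra hn
    push Not at hn
    exact h (hz χ hn.1 hn.2)
  rcases this a ha with rfl | rfl <;> rcases this b hb with rfl | rfl <;>
    rcases this c hc with rfl | rfl <;> simp

/-- Clearing denominators in an equation of signed degrees. -/
theorem clear {g x y z K1 K2 K3 N : ℤ} (hx : x ≠ 0) (hy : y ≠ 0) (hz : z ≠ 0)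
    (h : (g : ℚ) * (1 + K1 / x + K2 / y + K3 / z) = N) :
    g * (x * y * z + K1 * (y * z) + K2 * (x * z) + K3 * (x * y)) = N * (x * y * z) := by
  have hx' : (x : ℚ) ≠ 0 := by exact_mod_cast hx
  have hy' : (y : ℚ) ≠ 0 := by exact_mod_cast hy
  have hz' : (z : ℚ) ≠ 0 := by exact_mod_cast hz
  have h2 : ((g * (x * y * z + K1 * (y * z) + K2 * (x * z) + K3 * (x * y)) : ℤ) : ℚ) =
      ((N * (x * y * z) : ℤ) : ℚ) := by
    push_cast
    field_simp at h
    linear_combination h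
  exact_mod_cast h2

theorem signed_term {c d T : ℤ} (hc : c = 1 ∨ c = -1) :
    (c : ℚ) * (T : ℚ) ^ 2 / (d : ℚ) = ((T * T : ℤ) : ℚ) / ((c * d : ℤ) : ℚ) := by
  rcases hc with rfl | rfl <;> push_cast <;> ring

/-- The equation of a row of norm four, in signed degrees. -/
theorem row_eq {i : Fin 4} {N : ℤ} (hN : (![86400, 0, 144000, 144000] i : ℚ) = N) (ho : R.m i R.one = 1)
    {a b c : ι} (hao : a ≠ R.one) (hbo : b ≠ R.one) (hco : c ≠ R.one)
    (ea : R.m i a = 1 ∨ R.m i a = -1) (eb : R.m i b = 1 ∨ R.m i b = -1)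
    (ec : R.m i c = 1 ∨ R.m i c = -1)
    (hsum : ∀ H : ι → ℚ, ∑ χ, (R.m i χ : ℚ) * H χ =
      H R.one + R.m i a * H a + R.m i b * H b + R.m i c * H c) :
    R.g * ((R.m i a * R.d a) * (R.m i b * R.d b) * (R.m i c * R.d c) +
      (R.T a * R.T a) * ((R.m i b * R.d b) * (R.m i c * R.d c)) +
      (R.T b * R.T b) * ((R.m i a * R.d a) * (R.m i c * R.d c)) +
      (R.T c * R.T c) * ((R.m i a * R.d a) * (R.m i b * R.d b))) =
    N * ((R.m i a * R.d a) * (R.m i b * R.d b) * (R.m i c * R.d c)) := by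
  have hnz : ∀ {χ : ι}, χ ≠ R.one → (R.m i χ = 1 ∨ R.m i χ = -1) → R.m i χ * R.d χ ≠ 0 := by
    intro χ h e
    have := R.two_le χ h
    exact mul_ne_zero (by omega) (by omega)
  refine clear (hnz hao ea) (hnz hbo eb) (hnz hco ec) ?_
  rw [← hN, ← R.eqn i]
  congr 1
  have := hsum fun χ => (R.T χ : ℚ) ^ 2 / (R.d χ : ℚ)
  simp only [← mul_div_assoc] at this
  rw [show (∑ χ, (R.m i χ : ℚ) *
      ((-5 * R.m 0 χ + 4 * R.m 1 χ + 3 * R.m 2 χ + 3 * R.m 3 χ : ℤ) : ℚ) ^ 2 / (R.d χ : ℚ)) =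
      ∑ χ, (R.m i χ : ℚ) * (R.T χ : ℚ) ^ 2 / (R.d χ : ℚ) from rfl, this, R.d_one,
    signed_term ea, signed_term eb, signed_term ec]
  have hT : R.T R.one = 1 := by simp [Rows.T, R.m_one]
  rw [hT]
  push_cast
  ring

/-- The data left open at the order `189000`. -/
def Table : Fin 4 → Fin 10 → ℤ :=
  ![![1, -1, 0, 0, 0, 0, -1, 1, 0, 0], ![0, 0, 0, 0, 0, 0, 0, 0, 1, -1],
    ![1, -1, -1, 1, 0, 0, 0, 0, 0, 0], ![1, -1, 0, 0, -1, 1, 0, 0, 0, 0]]

theorem table_inj : ∀ k l : Fin 10, (∀ i, Table i k = Table i l) → k = l := by decide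

theorem signed_mod {c d k : ℤ} (hc : c = 1 ∨ c = -1) (h : (d - k * c) % 8 = 0) :
    (c * d) % 8 = k % 8 := by
  rcases hc with rfl | rfl <;> omega

theorem sq_one {c : ℤ} (hc : c = 1 ∨ c = -1) : c * c = 1 := by
  rcases hc with rfl | rfl <;> norm_num

theorem main : R.g = 175560 ∨ (R.g = 189000 ∧ ∃ (e : Fin 10 → ι) (dC : ℤ), Function.Injective e ∧
    e 0 = R.one ∧ (∀ i k, R.m i (e k) = Table i k) ∧
    (∀ k, R.d (e k) = ![1, 15, 21, 35, 21, 35, 21, 35, dC, dC] k) ∧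
    ∀ χ, (∀ k, χ ≠ e k) → ∀ i, R.m i χ = 0) := by
  have hd2 : ∀ χ, χ ≠ R.one → 0 < R.d χ := fun χ h => by have := R.two_le χ h; omega
  have i00 : ∑ χ, R.m 0 χ * R.m 0 χ = 4 := by simpa using R.inner 0 0
  have i22 : ∑ χ, R.m 2 χ * R.m 2 χ = 4 := by simpa using R.inner 2 2
  have i33 : ∑ χ, R.m 3 χ * R.m 3 χ = 4 := by simpa using R.inner 3 3
  have i02 : ∑ χ, R.m 0 χ * R.m 2 χ = 2 := by simpa using R.inner 0 2
  have i03 : ∑ χ, R.m 0 χ * R.m 3 χ = 2 := by simpa using R.inner 0 3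
  have i23 : ∑ χ, R.m 2 χ * R.m 3 χ = 2 := by simpa using R.inner 2 3
  have o0 : R.m 0 R.one = 1 := by simpa using R.m_one 0
  have o2 : R.m 2 R.one = 1 := by simpa using R.m_one 2
  have o3 : R.m 3 R.one = 1 := by simpa using R.m_one 3
  obtain ⟨X, hXo, hX32, hX2, hXu⟩ :=
    common hd2 i22 i33 i23 o2 o3 R.d_one (R.degree 2) (R.degree 3)
  obtain ⟨U, hUo, hU20, hU0, hUu⟩ :=
    common hd2 i00 i22 i02 o0 o2 R.d_one (R.degree 0) (R.degree 2)
  have hτo : ∀ χ, χ ≠ R.one → R.τ χ ≠ R.one := fun χ h e => by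
    have := R.d_τ χ
    rw [e, R.d_one] at this
    have := R.two_le χ h
    omega
  have hg : 0 < R.g := by have := R.sq_lt R.one; rw [R.d_one] at this; omega
  have mτ2 : ∀ χ, R.m 2 (R.τ χ) = R.m 3 χ := fun χ => by simpa using R.m_τ 2 χ
  have mτ3 : ∀ χ, R.m 3 (R.τ χ) = R.m 2 χ := fun χ => by simpa using R.m_τ 3 χ
  have mτ1 : ∀ χ, R.m 1 (R.τ χ) = R.m 1 χ := fun χ => by simpa using R.m_τ 1 χ
  have mτ0 : ∀ χ, R.m 0 (R.τ χ) = R.m 0 χ := fun χ => by simpa using R.m_τ 0 χ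
  have hX1 : R.m 1 X = 0 := by
    by_contra h
    obtain ⟨ψ, hψ, hψo, -, -, hm⟩ := partner R h
    exact hψ (hXu ψ hψo (by rw [hm 2 (by decide)]; exact hX2)
      (by rw [hm 3 (by decide), hX32]; exact hX2))
  -- constituents of the second row only have no component in the norm-two row
  have single2 : ∀ A, A ≠ R.one → R.m 2 A ≠ 0 → R.m 3 A = 0 → R.m 1 A = 0 := by
    intro A hA h2 h3
    by_contra h
    obtain ⟨ψ, hψ, hψo, hψ1, -, hm⟩ := partner R h
    rcases partner_unique R (a := A) (b := ψ) (c := R.τ A) h (by rw [hψ1]; omega)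
      (by rw [mτ1]; exact h) with e | e | e
    · exact hψ e.symm
    · have := mτ3 A; rw [← e, h3] at this; exact h2 this.symm
    · have := mτ3 A; rw [← e, hm 3 (by decide), h3] at this; exact h2 this.symm
  have cong : ∀ χ, (R.d χ - R.T χ) % 8 = 0 := R.value_mod
  by_cases hXzero : R.m 0 X = 0
  · -- the triangle
    exfalso
    have hUX : U ≠ X := fun e => hU0 (e ▸ hXzero)
    have hU3 : R.m 3 U = 0 := by
      by_contra h
      exact hUX (hXu U hUo (hU20 ▸ hU0) h)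
    obtain ⟨V, hVo, hV30, hV0, hVu⟩ :=
      common hd2 i00 i33 i03 o0 o3 R.d_one (R.degree 0) (R.degree 3)
    have hWV : R.τ U = V :=
      hVu _ (hτo U hUo) (by rw [mτ0]; exact hU0) (by rw [mτ3, hU20]; exact hU0)
    have hU1 : R.m 1 U = 0 := single2 U hUo (hU20 ▸ hU0) hU3
    obtain ⟨j, k, hjo, hko, hjX, hkX, hjk, eX, ej, ek, hz, hdeg, hsum⟩ :=
      triple i22 o2 R.d_one (R.degree 2) hXo hX2
    -- sort the second row as `X, U, A`
    obtain ⟨A, hAo, hAX, hAU, eA, eU2, hdeg', hsum'⟩ : ∃ A, A ≠ R.one ∧ A ≠ X ∧ A ≠ U ∧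
        (R.m 2 A = 1 ∨ R.m 2 A = -1) ∧ (R.m 2 U = 1 ∨ R.m 2 U = -1) ∧
        1 + R.m 2 X * R.d X + R.m 2 U * R.d U + R.m 2 A * R.d A = 0 ∧
        ∀ H : ι → ℚ, ∑ χ, (R.m 2 χ : ℚ) * H χ =
          H R.one + R.m 2 X * H X + R.m 2 U * H U + R.m 2 A * H A := by
      by_cases hj : U = j
      · subst hj
        exact ⟨k, hko, hkX, Ne.symm hjk, ek, ej, hdeg, hsum⟩
      by_cases hk : U = k
      · subst hk
        exact ⟨j, hjo, hjX, hjk, ej, ek, by linarith, fun H => by rw [hsum H]; ring⟩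
      exact absurd (hz U hUo hUX hj hk) (hU20 ▸ hU0)
    have hA3 : R.m 3 A = 0 := by
      by_contra h
      exact hAX (hXu A hAo (by omega) h)
    have hA0 : R.m 0 A = 0 := by
      by_contra h
      exact hAU (hUu A hAo h (by omega))
    have hA1 : R.m 1 A = 0 := single2 A hAo (by omega) hA3
    obtain ⟨j', k', hj'o, hk'o, hj'U, hk'U, hj'k', eU, ej', ek', hz', hdeg0, hsum0⟩ :=
      triple i00 o0 R.d_one (R.degree 0) hUo hU0
    have hVU : V ≠ U := fun e => by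
      rw [← hWV] at e
      have := mτ2 U
      rw [e, hU3, hU20] at this
      exact hU0 this
    obtain ⟨Y, hYo, hYU, hYV, eY, eV, hdegY, hsumY⟩ : ∃ Y, Y ≠ R.one ∧ Y ≠ U ∧ Y ≠ V ∧
        (R.m 0 Y = 1 ∨ R.m 0 Y = -1) ∧ (R.m 0 V = 1 ∨ R.m 0 V = -1) ∧
        1 + R.m 0 U * R.d U + R.m 0 V * R.d V + R.m 0 Y * R.d Y = 0 ∧
        ∀ H : ι → ℚ, ∑ χ, (R.m 0 χ : ℚ) * H χ =
          H R.one + R.m 0 U * H U + R.m 0 V * H V + R.m 0 Y * H Y := by
      by_cases hj : V = j'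
      · subst hj
        exact ⟨k', hk'o, hk'U, Ne.symm hj'k', ek', ej', hdeg0, hsum0⟩
      by_cases hk : V = k'
      · subst hk
        exact ⟨j', hj'o, hj'U, hj'k', ej', ek', by linarith, fun H => by rw [hsum0 H]; ring⟩
      exact absurd (hz' V hVo hVU hj hk) hV0
    have hY2 : R.m 2 Y = 0 := by
      by_contra h
      exact hYU (hUu Y hYo (by omega) h)
    have hY3 : R.m 3 Y = 0 := by
      by_contra h
      exact hYV (hVu Y hYo (by omega) h)
    have hY1 : R.m 1 Y = 0 := by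
      by_contra h
      obtain ⟨ψ, hψ, hψo, -, -, hm⟩ := partner R h
      have h0 : R.m 0 ψ ≠ 0 := by rw [hm 0 (by decide)]; omega
      by_cases e1 : ψ = U
      · subst e1; rw [hm 2 (by decide), hY2] at hU20; exact hU0 hU20.symm
      by_cases e2 : ψ = V
      · subst e2; rw [hm 3 (by decide), hY3] at hV30; exact hV0 hV30.symm
      have := hsumY fun χ => if χ = ψ then (1 : ℚ) else 0
      simp [Ne.symm hψo, Ne.symm e1, Ne.symm e2, Ne.symm hψ] at this
      exact h0 this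
    have hV2 : R.m 2 V = 0 := by rw [← hWV, mτ2, hU3]
    have hV1 : R.m 1 V = 0 := by rw [← hWV, mτ1, hU1]
    have hV0' : R.m 0 V = R.m 0 U := by rw [← hWV, mτ0]
    have hVd : R.d V = R.d U := by rw [← hWV, R.d_τ]
    have E2 := row_eq R (i := 2) (N := 144000) (by simp) o2 hXo hUo hAo eX eU2 eA hsum'
    have E0 := row_eq R (i := 0) (N := 86400) (by simp) o0 hUo hVo hYo eU eV eY hsumY
    have sX := R.sq_lt X
    have TX : R.T X = 6 * R.m 2 X := by simp only [Rows.T, hXzero, hX1, hX32]; ring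
    have TU : R.T U = -2 * R.m 0 U := by simp only [Rows.T, hU1, hU3, hU20]; ring
    have TA : R.T A = 3 * R.m 2 A := by simp only [Rows.T, hA0, hA1, hA3]; ring
    have TV : R.T V = -2 * R.m 0 U := by simp only [Rows.T, hV0', hV1, hV2, hV30]; ring
    have TY : R.T Y = -5 * R.m 0 Y := by simp only [Rows.T, hY1, hY2, hY3]; ring
    have cX := cong X
    have cU := cong U
    have cA := cong A
    rw [TX] at cX
    rw [TU] at cU
    rw [TA] at cA
    have qX := sq_one eX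
    have qU := sq_one eU
    have qA := sq_one eA
    have qY := sq_one eY
    rw [hU20] at hdeg' E2
    rw [hV0', hVd] at hdegY E0
    rw [TX, TU, TA] at E2
    rw [TU, TV, TY] at E0
    have mx := signed_mod eX cX
    have mu := signed_mod eU cU
    have ma := signed_mod eA cA
    set x := R.m 2 X * R.d X with hxdef
    set u := R.m 0 U * R.d U with hudef
    set a := R.m 2 A * R.d A with hadef
    have hy : R.m 0 Y * R.d Y = -1 - 2 * u := by linarith
    rw [hy] at E0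
    refine Arith.caseTwo (g := R.g) (x := x) (u := u) (a := a) hg (by omega) (by omega) (by omega)
      (by linarith) ?_ ?_ ?_
    · have : x * x = R.d X * R.d X := by
        rw [hxdef]
        linear_combination (R.d X * R.d X) * qX
      linarith
    · linear_combination E2 - 36 * R.g * (u * a) * qX - 4 * R.g * (x * a) * qU - 9 * R.g * (x * u) * qA
    · have hu0 : u ≠ 0 := by omega
      refine mul_left_cancel₀ hu0 ?_
      linear_combination E0 - 8 * R.g * (u * (-1 - 2 * u)) * qU - 25 * R.g * (u * u) * qY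
  -- one common constituent
  have hUX : U = X := (hUu X hXo hXzero hX2).symm
  subst hUX
  obtain ⟨A, B, hAo, hBo, hAX, hBX, hAB, eX, eA, eB, hz2, hdeg2, hsum2⟩ :=
    triple i22 o2 R.d_one (R.degree 2) hXo hX2
  obtain ⟨Y, Z, hYo, hZo, hYX, hZX, hYZ, eX0, eY, eZ, hz0, hdeg0, hsum0⟩ :=
    triple i00 o0 R.d_one (R.degree 0) hXo hXzero
  have hA3 : R.m 3 A = 0 := by
    by_contra h; exact hAX (hXu A hAo (by omega) h)
  have hB3 : R.m 3 B = 0 := by
    by_contra h; exact hBX (hXu B hBo (by omega) h)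
  have hA0 : R.m 0 A = 0 := by
    by_contra h; exact hAX (hUu A hAo h (by omega))
  have hB0 : R.m 0 B = 0 := by
    by_contra h; exact hBX (hUu B hBo h (by omega))
  have hY2 : R.m 2 Y = 0 := by
    by_contra h; exact hYX (hUu Y hYo (by omega) h)
  have hZ2 : R.m 2 Z = 0 := by
    by_contra h; exact hZX (hUu Z hZo (by omega) h)
  have hY3 : R.m 3 Y = 0 := by
    by_contra h
    have := hUu (R.τ Y) (hτo Y hYo) (by rw [mτ0]; omega) (by rw [mτ2]; exact h)
    have h' := mτ3 Y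
    rw [this, hX32, hY2] at h'
    exact hX2 h'
  have hZ3 : R.m 3 Z = 0 := by
    by_contra h
    have := hUu (R.τ Z) (hτo Z hZo) (by rw [mτ0]; omega) (by rw [mτ2]; exact h)
    have h' := mτ3 Z
    rw [this, hX32, hZ2] at h'
    exact hX2 h'
  have hA1 : R.m 1 A = 0 := single2 A hAo (by omega) hA3
  have hB1 : R.m 1 B = 0 := single2 B hBo (by omega) hB3
  have hYZ1 : (R.m 1 Y = 0 ∧ R.m 1 Z = 0) ∨
      ((R.m 1 Y = 1 ∨ R.m 1 Y = -1) ∧ R.m 1 Z = -R.m 1 Y ∧ R.m 0 Y = R.m 0 Z ∧ R.d Y = R.d Z) := by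
    have hu : ∀ χ, R.m 1 χ = 0 ∨ R.m 1 χ = 1 ∨ R.m 1 χ = -1 := fun χ =>
      unit_of_sq_sum (by simpa using R.inner 1 1 : ∑ χ, R.m 1 χ * R.m 1 χ = 2) (by norm_num)
        (Finset.mem_univ χ)
    have key : ∀ P Q, P ≠ R.one → (R.m 0 P = 1 ∨ R.m 0 P = -1) → R.m 2 P = 0 →
        (∀ χ, χ ≠ R.one → χ ≠ U → χ ≠ P → χ ≠ Q → R.m 0 χ = 0) → R.m 1 P ≠ 0 →
        R.m 1 Q = -R.m 1 P ∧ R.m 0 P = R.m 0 Q ∧ R.d P = R.d Q := by
      intro P Q hPo eP hP2 hzz h
      obtain ⟨ψ, hψ, hψo, h1, hd, hm⟩ := partner R h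
      have : ψ = Q := by
        by_contra hne
        have e0 := hm 0 (by decide)
        rw [hzz ψ hψo ?_ hψ hne] at e0
        · omega
        · rintro rfl
          exact hX2 ((hm 2 (by decide)).trans hP2)
      subst this
      exact ⟨h1, (hm 0 (by decide)).symm, hd.symm⟩
    by_cases h : R.m 1 Y = 0
    · left
      refine ⟨h, ?_⟩
      by_contra hZ
      have := key Z Y hZo eZ hZ2 (fun χ a b c e => hz0 χ a b e c) hZ
      omega
    · right
      obtain ⟨h1, h2, h3⟩ := key Y Z hYo eY hY2 hz0 h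
      rcases hu Y with e | e | e
      · exact absurd e h
      · exact ⟨Or.inl e, h1, h2, h3⟩
      · exact ⟨Or.inr e, h1, h2, h3⟩
  have hX02 : R.m 0 U = R.m 2 U := hU20.symm
  have E2 := row_eq R (i := 2) (N := 144000) (by simp) o2 hXo hAo hBo eX eA eB hsum2
  have E0 := row_eq R (i := 0) (N := 86400) (by simp) o0 hXo hYo hZo eX0 eY eZ hsum0
  have TX : R.T U = 1 * R.m 2 U := by simp only [Rows.T, hX02, hX1, hX32]; ring
  have TA : R.T A = 3 * R.m 2 A := by simp only [Rows.T, hA0, hA1, hA3]; ring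
  have TB : R.T B = 3 * R.m 2 B := by simp only [Rows.T, hB0, hB1, hB3]; ring
  have TY : R.T Y = -5 * R.m 0 Y + 4 * R.m 1 Y := by simp only [Rows.T, hY2, hY3]; ring
  have TZ : R.T Z = -5 * R.m 0 Z + 4 * R.m 1 Z := by simp only [Rows.T, hZ2, hZ3]; ring
  have cX := cong U
  have cA := cong A
  have cB := cong B
  have cY := cong Y
  have cZ := cong Z
  rw [TX] at cX
  rw [TA] at cA
  rw [TB] at cB
  rw [TY] at cY
  rw [TZ] at cZ
  have qX := sq_one eX
  have qA := sq_one eA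
  have qB := sq_one eB
  have qY := sq_one eY
  have qZ := sq_one eZ
  rw [TX, TA, TB] at E2
  rw [TX, TY, TZ, hX02] at E0
  rw [hX02] at hdeg0
  set x := R.m 2 U * R.d U with hxdef
  set a := R.m 2 A * R.d A with hadef
  set b := R.m 2 B * R.d B with hbdef
  set y := R.m 0 Y * R.d Y with hydef
  set z := R.m 0 Z * R.d Z with hzdef
  have sq : ∀ {c : ℤ} {χ : ι}, (c = 1 ∨ c = -1) → c * R.d χ * (c * R.d χ) < R.g := by
    intro c χ hc
    have := R.sq_lt χ
    rcases hc with rfl | rfl <;> linarith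
  have hx : x % 8 = 1 := signed_mod eX cX
  have hx1 : x ≠ 1 := by
    have := R.two_le U hXo
    rcases eX with e | e <;> rw [hxdef, e] <;> omega
  have ha : a % 8 = 3 := signed_mod eA cA
  have hb : b % 8 = 3 := signed_mod eB cB
  have E2' : R.g * (x * a * b + a * b + 9 * (x * b) + 9 * (x * a)) = 144000 * (x * a * b) := by
    linear_combination E2 - R.g * (a * b) * qX - 9 * R.g * (x * b) * qA - 9 * R.g * (x * a) * qB
  have hA := R.two_le A hAo
  have main' : ∀ {mm : ℕ}, ((mm = 0 ∧ y % 8 = 3 ∧ z % 8 = 3 ∧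
        R.g * (x * y * z + y * z + 25 * (x * z) + 25 * (x * y)) = 86400 * (x * y * z)) ∨
      (mm = 1 ∧ y % 8 = 7 ∧ z = y ∧ R.g * (x * y + y + 82 * x) = 86400 * (x * y))) → _ :=
    fun {mm} h => Arith.caseOne (m := mm) hg R.g_dvd R.g_odd hx hx1 ha hb (by linarith)
      (sq eX) (sq eA) (sq eB) (sq eY) E2' (by linarith) h
  rcases hYZ1 with ⟨hY1, hZ1⟩ | ⟨hY1, hZ1, h00, hdd⟩
  · rw [hY1] at cY E0
    rw [hZ1] at cZ E0
    have hy := signed_mod (k := -5) eY (by simpa using cY)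
    have hz := signed_mod (k := -5) eZ (by simpa using cZ)
    have h := main' (mm := 0) (Or.inl ⟨rfl, by omega, by omega, by
      linear_combination E0 - R.g * (y * z) * qX - 25 * R.g * (x * z) * qY -
        25 * R.g * (x * y) * qZ⟩)
    rcases h with h | ⟨h189, hx15, hab, hyz, -⟩
    · exact Or.inl h
    refine Or.inr ⟨h189, ?_⟩
    have dU : R.m 2 U = -1 ∧ R.d U = 15 := by
      have := R.two_le U hXo
      rcases eX with e | e <;> rw [hxdef, e] at hx15 <;> omega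
    -- order the pairs by size
    obtain ⟨A', B', hA'o, hB'o, hA'X, hB'X, hA'B', mA, mB, dA, dB, a0, a1, a3, b0, b1, b3, hz2'⟩ :
        ∃ A' B', A' ≠ R.one ∧ B' ≠ R.one ∧ A' ≠ U ∧ B' ≠ U ∧ A' ≠ B' ∧ R.m 2 A' = -1 ∧
          R.m 2 B' = 1 ∧ R.d A' = 21 ∧ R.d B' = 35 ∧ R.m 0 A' = 0 ∧ R.m 1 A' = 0 ∧ R.m 3 A' = 0 ∧
          R.m 0 B' = 0 ∧ R.m 1 B' = 0 ∧ R.m 3 B' = 0 ∧
          ∀ χ, χ ≠ R.one → χ ≠ U → χ ≠ A' → χ ≠ B' → R.m 2 χ = 0 := by
      have := R.two_le B hBo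
      rcases hab with ⟨h1, h2⟩ | ⟨h1, h2⟩ <;> rw [hadef] at h1 <;> rw [hbdef] at h2
      · exact ⟨A, B, hAo, hBo, hAX, hBX, hAB, by rcases eA with e | e <;> rw [e] at h1 <;> omega,
          by rcases eB with e | e <;> rw [e] at h2 <;> omega,
          by rcases eA with e | e <;> rw [e] at h1 <;> omega,
          by rcases eB with e | e <;> rw [e] at h2 <;> omega, hA0, hA1, hA3, hB0, hB1, hB3, hz2⟩
      · exact ⟨B, A, hBo, hAo, hBX, hAX, Ne.symm hAB,
          by rcases eB with e | e <;> rw [e] at h2 <;> omega,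
          by rcases eA with e | e <;> rw [e] at h1 <;> omega,
          by rcases eB with e | e <;> rw [e] at h2 <;> omega,
          by rcases eA with e | e <;> rw [e] at h1 <;> omega, hB0, hB1, hB3, hA0, hA1, hA3,
          fun χ p q r s => hz2 χ p q s r⟩
    obtain ⟨Y', Z', hY'o, hZ'o, hY'X, hZ'X, hY'Z', mY, mZ, dY, dZ, y2, y1, y3, z2, z1, z3, hz0'⟩ :
        ∃ Y' Z', Y' ≠ R.one ∧ Z' ≠ R.one ∧ Y' ≠ U ∧ Z' ≠ U ∧ Y' ≠ Z' ∧ R.m 0 Y' = -1 ∧
          R.m 0 Z' = 1 ∧ R.d Y' = 21 ∧ R.d Z' = 35 ∧ R.m 2 Y' = 0 ∧ R.m 1 Y' = 0 ∧ R.m 3 Y' = 0 ∧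
          R.m 2 Z' = 0 ∧ R.m 1 Z' = 0 ∧ R.m 3 Z' = 0 ∧
          ∀ χ, χ ≠ R.one → χ ≠ U → χ ≠ Y' → χ ≠ Z' → R.m 0 χ = 0 := by
      have := R.two_le Y hYo
      have := R.two_le Z hZo
      rcases hyz with ⟨h1, h2⟩ | ⟨h1, h2⟩ <;> (try rw [hydef] at h1) <;> (try rw [hzdef] at h2)
      · exact ⟨Y, Z, hYo, hZo, hYX, hZX, hYZ, by rcases eY with e | e <;> rw [e] at h1 <;> omega,
          by rcases eZ with e | e <;> rw [e] at h2 <;> omega,
          by rcases eY with e | e <;> rw [e] at h1 <;> omega,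
          by rcases eZ with e | e <;> rw [e] at h2 <;> omega, hY2, hY1, hY3, hZ2, hZ1, hZ3, hz0⟩
      · exact ⟨Z, Y, hZo, hYo, hZX, hYX, Ne.symm hYZ,
          by rcases eZ with e | e <;> rw [e] at h2 <;> omega,
          by rcases eY with e | e <;> rw [e] at h1 <;> omega,
          by rcases eZ with e | e <;> rw [e] at h2 <;> omega,
          by rcases eY with e | e <;> rw [e] at h1 <;> omega, hZ2, hZ1, hZ3, hY2, hY1, hY3,
          fun χ p q r s => hz0 χ p q s r⟩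
    obtain ⟨C, D, hCo, hDo, hCD, eC, eD, hdCD, hz1, hm⟩ := pair R
    set e : Fin 10 → ι := ![R.one, U, A', B', R.τ A', R.τ B', Y', Z', C, D] with hedef
    have offC : ∀ {χ : ι}, R.m 1 χ = 0 → χ ≠ C ∧ χ ≠ D := fun {χ} h =>
      ⟨fun e => by rw [e, eC] at h; omega, fun e => by rw [e, eD] at h; omega⟩
    have hC0 : R.m 0 C = 0 := hz0' C hCo (offC hX1).1.symm (offC y1).1.symm (offC z1).1.symm
    have hC2 : R.m 2 C = 0 := hz2' C hCo (offC hX1).1.symm (offC a1).1.symm (offC b1).1.symm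
    have row3 : ∀ χ, χ ≠ R.one → χ ≠ U → χ ≠ R.τ A' → χ ≠ R.τ B' → R.m 3 χ = 0 := by
      intro χ h1 h2 h3 h4
      obtain ⟨ψ, rfl⟩ := Finite.surjective_of_injective R.τ_inj χ
      have p1 : ψ ≠ R.one := fun e => by
        subst e
        have := R.two_le _ h1
        rw [R.d_τ, R.d_one] at this
        omega
      have p2 : ψ ≠ U := fun e => by
        subst e
        exact h2 (hXu _ (hτo _ hXo) (by rw [mτ2, hX32]; exact hX2) (by rw [mτ3]; exact hX2))
      rw [mτ3]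
      exact hz2' ψ p1 p2 (fun e => h3 (e ▸ rfl)) (fun e => h4 (e ▸ rfl))
    have hC3 : R.m 3 C = 0 :=
      row3 C hCo (offC hX1).1.symm (fun h => by
        have := mτ1 A'; rw [← h, eC, a1] at this; omega) (fun h => by
        have := mτ1 B'; rw [← h, eC, b1] at this; omega)
    have hD0 : R.m 0 D = 0 := by rw [← hm 0 (by decide)]; exact hC0
    have hD2 : R.m 2 D = 0 := by rw [← hm 2 (by decide)]; exact hC2
    have hD3 : R.m 3 D = 0 := by rw [← hm 3 (by decide)]; exact hC3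
    have htab : ∀ i k, R.m i (e k) = Table i k := by
      intro i k
      fin_cases k <;> fin_cases i <;>
        simp [hedef, Table, R.m_one, mτ0, mτ1, mτ2, mτ3, hX1, hX02, hX32, dU.1, mA, mB, a0, a1, a3,
          b0, b1, b3, mY, mZ, y1, y2, y3, z1, z2, z3, eC, eD, hC0, hC2, hC3, hD0, hD2, hD3]
    have hdeg : ∀ k, R.d (e k) = ![1, 15, 21, 35, 21, 35, 21, 35, R.d C, R.d C] k := by
      intro k
      fin_cases k <;> simp [hedef, R.d_one, R.d_τ, dU.2, dA, dB, dY, dZ, hdCD]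
    refine ⟨e, R.d C, ?_, by simp [hedef], htab, hdeg, ?_⟩
    · intro k l h
      exact table_inj k l fun i => by rw [← htab, ← htab, h]
    · intro χ hχ i
      have c1 : R.m 1 χ = 0 := hz1 χ (hχ 8) (hχ 9)
      have c2 : R.m 2 χ = 0 := hz2' χ (hχ 0) (hχ 1) (hχ 2) (hχ 3)
      have c0 : R.m 0 χ = 0 := hz0' χ (hχ 0) (hχ 1) (hχ 6) (hχ 7)
      have c3 : R.m 3 χ = 0 := row3 χ (hχ 0) (hχ 1) (hχ 4) (hχ 5)
      fin_cases i
      exacts [c0, c1, c2, c3]
  · have hzy : z = y := by rw [hzdef, hydef, h00, hdd]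
    have hy0 : y ≠ 0 := by
      have := R.two_le Y hYo
      rcases eY with e | e <;> rw [hydef, e] <;> omega
    rw [hZ1, ← h00] at E0
    rw [hzy] at E0
    have q1 := sq_one hY1
    have hy : y % 8 = 7 := by
      rcases eY with e | e <;> rcases hY1 with e' | e' <;> rw [e, e'] at cY <;> rw [hydef, e] <;>
        omega
    have e0 : R.g * (x * y + y + 82 * x) = 86400 * (x * y) := by
      refine mul_left_cancel₀ hy0 ?_
      linear_combination E0 - R.g * (y * y) * qX - 50 * R.g * (x * y) * qY - 32 * R.g * (x * y) * q1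
    rcases main' (mm := 1) (Or.inr ⟨rfl, hy, hzy, e0⟩) with h | ⟨-, -, -, -, h⟩
    · exact Or.inl h
    · omega

end Cfsg.Lib.J1Order.Virtual
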