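import Cfsg.Agent.Lib.J1Order.Local
import Cfsg.Agent.Lib.J1Order.Virtual
import Cfsg.Agent.Lib.Char.Galois
import Cfsg.Agent.Lib.Char.Linear
import Cfsg.Agent.Lib.Char.Formulas

/-!
# The order of a simple group with an involution centralizer `2 × A₅`
-/

set_option autoImplicit false
set_option linter.style.haveILetI false
set_option linter.unusedSectionVars false
set_option maxHeartbeats 1600000

namespace Cfsg.Lib.J1Order

open Subgroup Cfsg Cfsg.Lib.Char
open scoped ComplexConjugate

universe u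

variable {G : Type u} [Group G]

/-- Pairs of involutions against a function induced from a set inverted only inside `L`. -/
theorem sum_invol_pair_section [Fintype G] [DecidableEq G] (L : Subgroup G) [Fintype L]
    [DecidablePred (· ∈ L)] {ψ : L → ℂ}
    (hinv : ∀ h : L, ψ h ≠ 0 → ∀ x : G, x * (h : G) * x⁻¹ = (h : G)⁻¹ → x ∈ L) :
    ∑ x ∈ involFinset G, ∑ y ∈ involFinset G, indFun L ψ (x * y) =
      (L.index : ℂ) * ∑ x ∈ involFinset L, ∑ y ∈ involFinset L, ψ (x * y) := by
  classical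
  set K : G → ℕ := fun g => ((involFinset G ×ˢ involFinset G).filter fun p => p.1 * p.2 = g).card
    with hK
  have hKc : IsClassFunction G (fun g => (K g : ℂ)) := by
    intro g k
    have : K (k * g * k⁻¹) = K g := by
      refine Finset.card_nbij' (fun p => (k⁻¹ * p.1 * k, k⁻¹ * p.2 * k))
        (fun p => (k * p.1 * k⁻¹, k * p.2 * k⁻¹)) ?_ ?_ ?_ ?_
      · intro p hp
        simp only [Finset.mem_filter, Finset.mem_product, Finset.mem_coe] at hp ⊢
        refine ⟨⟨by simpa using conj_mem_involFinset k⁻¹ hp.1.1,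
          by simpa using conj_mem_involFinset k⁻¹ hp.1.2⟩, ?_⟩
        calc k⁻¹ * p.1 * k * (k⁻¹ * p.2 * k) = k⁻¹ * (p.1 * p.2) * k := by group
          _ = g := by rw [hp.2]; group
      · intro p hp
        simp only [Finset.mem_filter, Finset.mem_product, Finset.mem_coe] at hp ⊢
        refine ⟨⟨conj_mem_involFinset k hp.1.1, conj_mem_involFinset k hp.1.2⟩, ?_⟩
        rw [← hp.2]
        group
      · intro p _; simp [mul_assoc]
      · intro p _; simp [mul_assoc]
    show (K (k * g * k⁻¹) : ℂ) = K g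
    rw [this]
  have hsum : ∑ x ∈ involFinset G, ∑ y ∈ involFinset G, indFun L ψ (x * y) =
      ∑ g : G, (K g : ℂ) * indFun L ψ g := by
    rw [← Finset.sum_product', ← Finset.sum_fiberwise (involFinset G ×ˢ involFinset G)
      (fun p => p.1 * p.2)]
    refine Finset.sum_congr rfl fun g _ => ?_
    rw [Finset.sum_congr rfl fun p hp => by rw [(Finset.mem_filter.mp hp).2], Finset.sum_const,
      nsmul_eq_mul]
  have hFrob : (Nat.card G : ℂ)⁻¹ * ∑ g : G, (K g : ℂ) * indFun L ψ g =
      (Nat.card L : ℂ)⁻¹ * ∑ h : L, (K h : ℂ) * ψ h := by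
    have h := classInner_indFun L ψ hKc
    simp only [classInner, Complex.conj_natCast] at h
    simpa only [mul_comm (K _ : ℂ)] using h
  have hloc : ∀ h : L, ψ h ≠ 0 →
      K h = ((involFinset L ×ˢ involFinset L).filter fun p => p.1 * p.2 = h).card := by
    intro h hh
    symm
    refine Finset.card_nbij (fun p => ((p.1 : G), (p.2 : G))) ?_ ?_ ?_
    · intro p hp
      simp only [Finset.mem_coe, Finset.mem_filter, Finset.mem_product, mem_involFinset] at hp ⊢
      exact ⟨⟨⟨fun e => hp.1.1.1 (Subtype.ext e), congrArg Subtype.val hp.1.1.2⟩,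
        ⟨fun e => hp.1.2.1 (Subtype.ext e), congrArg Subtype.val hp.1.2.2⟩⟩,
        congrArg Subtype.val hp.2⟩
    · intro p _ p' _ e
      simp only [Prod.mk.injEq] at e
      exact Prod.ext (Subtype.ext e.1) (Subtype.ext e.2)
    · rintro ⟨x, y⟩ hp
      simp only [Finset.mem_coe, Finset.mem_filter, Finset.mem_product, mem_involFinset] at hp
      obtain ⟨⟨⟨hx1, hxx⟩, hy1, hyy⟩, hxy⟩ := hp
      have hx : x ∈ L := by
        refine hinv h hh x ?_
        rw [← hxy, mul_inv_rev, inv_eq_of_mul_eq_one_right hxx, inv_eq_of_mul_eq_one_right hyy,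
          ← mul_assoc, hxx, one_mul]
      have hy : y ∈ L := by
        rw [show y = x⁻¹ * (h : G) by rw [← hxy, inv_mul_cancel_left]]
        exact L.mul_mem (L.inv_mem hx) h.2
      refine ⟨(⟨x, hx⟩, ⟨y, hy⟩), ?_, rfl⟩
      simp only [Finset.mem_coe, Finset.mem_filter, Finset.mem_product, mem_involFinset]
      exact ⟨⟨⟨fun e => hx1 (congrArg Subtype.val e), Subtype.ext hxx⟩,
        ⟨fun e => hy1 (congrArg Subtype.val e), Subtype.ext hyy⟩⟩, Subtype.ext hxy⟩
  have hR : ∑ h : L, (K h : ℂ) * ψ h = ∑ x ∈ involFinset L, ∑ y ∈ involFinset L, ψ (x * y) := by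
    rw [← Finset.sum_product', ← Finset.sum_fiberwise (involFinset L ×ˢ involFinset L)
      (fun p => p.1 * p.2)]
    refine Finset.sum_congr rfl fun h _ => ?_
    rw [Finset.sum_congr rfl fun p hp => by rw [(Finset.mem_filter.mp hp).2], Finset.sum_const,
      nsmul_eq_mul]
    by_cases hh : ψ h = 0
    · rw [hh, mul_zero, mul_zero]
    · rw [hloc h hh]
  rw [hsum, ← hR]
  rw [inv_mul_eq_iff_eq_mul₀ card_cast_ne_zero] at hFrob
  rw [hFrob, ← Subgroup.index_mul_card L, Nat.cast_mul]
  have : (Nat.card L : ℂ) ≠ 0 := Nat.cast_ne_zero.mpr Nat.card_pos.ne'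
  field_simp

variable [Finite G] [IsSimpleGroup G] {t : G} (ht : IsTwoCentralInvolution t)
  (e : Subgroup.centralizer ({t} : Set G) ≃* Model.M)

include ht e

theorem value_on_class [Fintype (Subgroup.centralizer ({t} : Set G))] {χ : G → ℂ} {c : ℂ}
    {F : Fin 2 × Fin 5 → ℂ} (hF : ∑ m : Model.M, F (Model.kM m) = 120)
    (hc : ∀ x : Subgroup.centralizer ({t} : Set G), F (Model.kM (e x)) ≠ 0 → χ (x : G) = c) :
    classInner (fun x => F (Model.kM (e x))) (fun x : Subgroup.centralizer ({t} : Set G) => χ x) =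
      conj c := by
  rw [classInner, Local.card_L ht e]
  have h : ∀ x : Subgroup.centralizer ({t} : Set G),
      F (Model.kM (e x)) * conj (χ (x : G)) = F (Model.kM (e x)) * conj c := fun x => by
    by_cases h : F (Model.kM (e x)) = 0
    · rw [h, zero_mul, zero_mul]
    · rw [hc x h]
  rw [Finset.sum_congr rfl fun x _ => h x, ← Finset.sum_mul,
    show ∑ i, F (Model.kM (e i)) = 120 from
      (Equiv.sum_comp e.toEquiv fun m => F (Model.kM m)).trans hF]
  push_cast
  ring

/-- The multiplicities in the restriction to the centralizer, and what they determine. -/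
theorem exists_local (χ : IrrCharacter G) : ∃ a b : Fin 5 → ℕ,
    (χ : G → ℂ) 1 = (((a 0 + b 0) + 3 * (a 1 + b 1) + 3 * (a 2 + b 2) + 4 * (a 3 + b 3) +
      5 * (a 4 + b 4) : ℤ) : ℂ) ∧
    (χ : G → ℂ) t = (((a 0 - b 0) + 3 * (a 1 - b 1) + 3 * (a 2 - b 2) + 4 * (a 3 - b 3) +
      5 * (a 4 - b 4) : ℤ) : ℂ) ∧
    (χ : G → ℂ) t = (((a 0 + b 0) - (a 1 + b 1) - (a 2 + b 2) + (a 4 + b 4) : ℤ) : ℂ) ∧
    (χ : G → ℂ) t = (((a 0 - b 0) - (a 1 - b 1) - (a 2 - b 2) + (a 4 - b 4) : ℤ) : ℂ) ∧
    (χ : G → ℂ) (Local.wG e) = (((a 0 + b 0) + (a 3 + b 3) - (a 4 + b 4) : ℤ) : ℂ) ∧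
    ∀ i : Fin 4, ∀ [Fintype (Subgroup.centralizer ({t} : Set G))],
      classInner (fun x => Model.W i (Model.kM (e x)))
        (fun x : Subgroup.centralizer ({t} : Set G) => (χ : G → ℂ) x) =
      ((![((a 0 : ℤ) - b 0) - (a 4 - b 4), (a 3 : ℤ) - b 3, ((a 0 : ℤ) - b 0) + (a 1 - b 1),
        ((a 0 : ℤ) - b 0) + (a 2 - b 2)] i : ℤ) : ℂ) := by
  classical
  haveI := Fintype.ofFinite G
  haveI hLf : Fintype (Subgroup.centralizer ({t} : Set G)) := Fintype.ofFinite (Subgroup.centralizer ({t} : Set G))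
  set res : (Subgroup.centralizer ({t} : Set G)) → ℂ := fun x => (χ : G → ℂ) x with hres
  have hchar : IsCharacter (Subgroup.centralizer ({t} : Set G)) res := χ.2.isCharacter.comp (Subgroup.centralizer ({t} : Set G)).subtype
  have hu : ∀ j, IsCharacter (Subgroup.centralizer ({t} : Set G)) fun x => Model.chi j (Model.kM (e x)).2 := fun j =>
    (Model.chi_isIrr j).isCharacter.comp ((MonoidHom.snd _ _).comp e.toMonoidHom)
  have hv : ∀ j, IsCharacter (Subgroup.centralizer ({t} : Set G)) fun x =>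
      (![1, -1] (Model.kM (e x)).1 : ℂ) * Model.chi j (Model.kM (e x)).2 := fun j =>
    (Model.sign_isCharacter.comp e.toMonoidHom).mul (hu j)
  choose a ha using fun j => (hu j).exists_nat_classInner hchar
  choose b hb using fun j => (hv j).exists_nat_classInner hchar
  have comb : ∀ (c c' : Fin 5 → ℤ) (F : Fin 2 × Fin 5 → ℂ),
      (∀ k, F k = ∑ j, ((c j : ℂ) * Model.chi j k.2 + (c' j : ℂ) * ((![1, -1] k.1 : ℂ) * Model.chi j k.2))) →
      classInner (fun x => F (Model.kM (e x))) res = ((∑ j, (c j * a j + c' j * b j) : ℤ) : ℂ) := by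
    intro c c' F hF
    have e1 : (fun x : (Subgroup.centralizer ({t} : Set G)) => F (Model.kM (e x))) = ∑ j, ((c j : ℂ) •
        (fun x : (Subgroup.centralizer ({t} : Set G)) => Model.chi j (Model.kM (e x)).2) + (c' j : ℂ) •
        fun x : (Subgroup.centralizer ({t} : Set G)) => (![1, -1] (Model.kM (e x)).1 : ℂ) * Model.chi j (Model.kM (e x)).2) := by
      funext x
      simp only [Finset.sum_apply, Pi.add_apply, Pi.smul_apply, smul_eq_mul]
      exact hF _
    rw [e1, classInner_sum_left]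
    push_cast
    refine Finset.sum_congr rfl fun j _ => ?_
    rw [classInner_add_left, classInner_smul_left, classInner_smul_left, ha, hb]
  have val : ∀ (c c' : Fin 5 → ℤ) (k₀ : Fin 2 × Fin 5) (n : ℂ) (z : ℂ),
      (∀ k, (if k = k₀ then n else 0) =
        ∑ j, ((c j : ℂ) * Model.chi j k.2 + (c' j : ℂ) * ((![1, -1] k.1 : ℂ) * Model.chi j k.2))) →
      (∑ m : Model.M, (if Model.kM m = k₀ then n else 0)) = 120 →
      (∀ x : (Subgroup.centralizer ({t} : Set G)), Model.kM (e x) = k₀ → (χ : G → ℂ) x = z) →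
      z = ((∑ j, (c j * a j + c' j * b j) : ℤ) : ℂ) := by
    intro c c' k₀ n z h1 h2 h3
    have h4 := value_on_class ht e (χ := (χ : G → ℂ)) (c := z)
      (F := fun k => if k = k₀ then n else 0) h2 fun x hx => h3 x (by by_contra h; simp [h] at hx)
    rw [comb c c' _ h1] at h4
    rw [← Complex.conj_conj z, ← h4, map_intCast]
  have hconj : ∀ x : (Subgroup.centralizer ({t} : Set G)), (x : G) * x = 1 → (x : G) ≠ 1 → (χ : G → ℂ) x = (χ : G → ℂ) t := by
    intro x h1 h2
    obtain ⟨g, hg⟩ := isConj_iff.1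
      (Local.isConj_invol ht e (Cfsg.Lib.Invol.orderOf_eq_two_of h2 h1))
    rw [← hg, χ.2.isClassFunction]
  have hinv : ∀ x : (Subgroup.centralizer ({t} : Set G)), (Model.kM (e x) = (0, 1) ∨ Model.kM (e x) = (1, 1)) →
      (χ : G → ℂ) x = (χ : G → ℂ) t := by
    intro x hx
    obtain ⟨h1, h2⟩ := (Model.kM_invol (e x)).resolve_left (fun h => h hx)
    rw [← map_mul, e.map_eq_one_iff] at h1
    exact hconj x (congrArg Subtype.val h1)
      (fun h => h2 (by rw [show x = 1 from Subtype.ext h, map_one]))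
  have hal := Model.al_sq
  refine ⟨a, b, ?_, ?_, ?_, ?_, ?_, ?_⟩
  · rw [val ![1, 3, 3, 4, 5] ![1, 3, 3, 4, 5] (0, 0) 120 ((χ : G → ℂ) 1) ?_ ?_ ?_]
    · simp [Fin.sum_univ_five]; ring
    · rintro ⟨s, j⟩
      fin_cases s <;> fin_cases j <;> simp [Fin.sum_univ_five, Model.chi] <;> grind
    · rw [Model.sum_kM fun k => if k = (0, 0) then (120 : ℂ) else 0]; simp +decide <;> norm_num
    · intro x hx
      have : ∀ m : Model.M, Model.kM m = (0, 0) → m = 1 := by
        intro m h
        rcases Fin.exists_fin_two.1 ⟨Model.sgn m, rfl⟩ with h' | h' <;>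
          simp only [Model.kM, Prod.mk.injEq] at h
        · have h2 : m.2 = 1 := by
            by_contra hne
            have := h.2
            simp only [Model.cls, if_neg hne] at this
            split_ifs at this <;> simp at this
          have h1 : m.1 = 1 := by
            by_contra hne
            simp [Model.sgn, hne] at h'
          exact Prod.ext h1 h2
        · rw [h'] at h; simp at h
      rw [e.map_eq_one_iff.1 (this _ hx)]
      rfl
  · rw [val ![1, 3, 3, 4, 5] ![-1, -3, -3, -4, -5] (1, 0) 120 ((χ : G → ℂ) t) ?_ ?_ ?_]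
    · simp [Fin.sum_univ_five]; ring
    · rintro ⟨s, j⟩
      fin_cases s <;> fin_cases j <;> simp [Fin.sum_univ_five, Model.chi] <;> grind
    · rw [Model.sum_kM fun k => if k = (1, 0) then (120 : ℂ) else 0]; simp +decide <;> norm_num
    · intro x hx
      rw [Model.kM_t, ← Local.e_t ht e] at hx
      rw [e.injective hx]
  · rw [val ![1, -1, -1, 0, 1] ![1, -1, -1, 0, 1] (0, 1) 8 ((χ : G → ℂ) t) ?_ ?_ (fun x hx => hinv x (Or.inl hx))]
    · simp [Fin.sum_univ_five]; ring
    · rintro ⟨s, j⟩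
      fin_cases s <;> fin_cases j <;> simp [Fin.sum_univ_five, Model.chi] <;> grind
    · rw [Model.sum_kM fun k => if k = (0, 1) then (8 : ℂ) else 0]; simp +decide <;> norm_num
  · rw [val ![1, -1, -1, 0, 1] ![-1, 1, 1, 0, -1] (1, 1) 8 ((χ : G → ℂ) t) ?_ ?_ (fun x hx => hinv x (Or.inr hx))]
    · simp [Fin.sum_univ_five]; ring
    · rintro ⟨s, j⟩
      fin_cases s <;> fin_cases j <;> simp [Fin.sum_univ_five, Model.chi] <;> grind
    · rw [Model.sum_kM fun k => if k = (1, 1) then (8 : ℂ) else 0]; simp +decide <;> norm_num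
  · rw [val ![1, 0, 0, 1, -1] ![1, 0, 0, 1, -1] (0, 2) 6 ((χ : G → ℂ) (Local.wG e)) ?_ ?_ ?_]
    · simp [Fin.sum_univ_five]; ring
    · rintro ⟨s, j⟩
      fin_cases s <;> fin_cases j <;> simp [Fin.sum_univ_five, Model.chi] <;> grind
    · rw [Model.sum_kM fun k => if k = (0, 2) then (6 : ℂ) else 0]; simp +decide <;> norm_num
    · intro x hx
      obtain ⟨c, hc⟩ := (Model.kM_three (e x)).resolve_left (fun h => h hx)
      have hx' : e.symm c * e.symm Model.wM * (e.symm c)⁻¹ = x := by
        rw [← map_inv, ← map_mul, ← map_mul, hc, e.symm_apply_apply]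
      rw [← hx']
      push_cast
      rw [χ.2.isClassFunction]
      rfl
  · intro i inst
    obtain rfl : inst = hLf := Subsingleton.elim _ _
    have h := comb (![![1, 0, 0, 0, -1], ![0, 0, 0, 1, 0], ![1, 1, 0, 0, 0], ![1, 0, 1, 0, 0]] i)
      (![![-1, 0, 0, 0, 1], ![0, 0, 0, -1, 0], ![-1, -1, 0, 0, 0], ![-1, 0, -1, 0, 0]] i)
      (Model.W i) (by
        rintro ⟨s, j⟩
        fin_cases i <;> fin_cases s <;> fin_cases j <;>
          simp [Fin.sum_univ_five, Model.chi, Model.W, Model.phi] <;> ring)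
    rw [h]
    congr 1
    fin_cases i <;> simp [Fin.sum_univ_five] <;> ring

theorem degree_one_trivial {χ : IrrCharacter G} (h : (χ : G → ℂ) 1 = 1) :
    (χ : G → ℂ) = fun _ => 1 := by
  obtain ⟨φ, hφ⟩ := exists_hom_of_degree_one χ.2.isCharacter h
  rw [hφ]
  funext g
  have hg := Abelianization.commutator_subset_ker φ (Local.perfect ht e ▸ mem_top g)
  simp [MonoidHom.mem_ker.1 hg]

theorem order_eq : Nat.card G = 175560 := by
  classical
  haveI : Fact (Nat.Prime 2) := ⟨Nat.prime_two⟩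
  haveI := Fintype.ofFinite G
  haveI : Fintype (Subgroup.centralizer ({t} : Set G)) := Fintype.ofFinite (Subgroup.centralizer ({t} : Set G))
  have htne := Local.t_ne ht
  have htt := Local.t_mul ht
  set θ : Fin 4 → (Subgroup.centralizer ({t} : Set G)) → ℂ := fun i x => Model.W i (Model.kM (e x)) with hθ
  have hθg : ∀ i, IsGeneralizedCharacter (Subgroup.centralizer ({t} : Set G)) (θ i) := fun i =>
    (Model.W_isGeneralized i).comp e.toMonoidHom
  have hθr : ∀ i x, conj (θ i x) = θ i x := fun i x => by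
    simp only [hθ, Model.W]
    split_ifs <;> simp [Model.conj_phi, map_ofNat]
  -- the support
  have hsupp : ∀ i (x : (Subgroup.centralizer ({t} : Set G))), (x : G) ∉ {y : G | y ^ 15 = t} → θ i x = 0 := by
    intro i x hx
    by_contra h
    refine hx ?_
    have h1 : Model.sgn (e x) = 1 ∧ Model.cls (e x).2 ≠ 1 := by
      constructor
      · by_contra h1
        exact h (by simp [hθ, Model.W, Model.kM, h1])
      · intro h1
        refine h ?_
        simp only [hθ, Model.W, Model.kM, h1]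
        fin_cases i <;> simp [Model.phi]
    have h2 := (Model.pow_fifteen (e x)).2 h1
    rw [← map_pow, ← Local.e_t ht e] at h2
    exact congrArg Subtype.val (e.injective h2)
  have hTI : ∀ x : G, x ∉ (Subgroup.centralizer ({t} : Set G)) → ∀ s ∈ {y : G | y ^ 15 = t}, s ≠ 1 →
      x * s * x⁻¹ ∉ {y : G | y ^ 15 = t} := by
    intro x hx s hs _ hs'
    simp only [Set.mem_setOf_eq, conj_pow] at hs hs'
    rw [hs] at hs'
    exact hx (mem_centralizer_singleton_iff.2 (mul_inv_eq_iff_eq_mul.1 hs'))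
  have hθ1 : ∀ i, θ i 1 = 0 := fun i => by
    simp [hθ, Model.W, Model.kM_one]
  set Φ : Fin 4 → G → ℂ := fun i => indFun (Subgroup.centralizer ({t} : Set G)) (θ i) with hΦ
  have hΦg : ∀ i, IsGeneralizedCharacter G (Φ i) := fun i =>
    isGeneralizedCharacter_indFun (Subgroup.centralizer ({t} : Set G)) (hθg i)
  choose m hm using fun i (χ : IrrCharacter G) =>
    (hΦg i).exists_int_classInner χ.2.isGeneralized
  have hrec : ∀ i (χ : IrrCharacter G),
      classInner (θ i) (fun x : (Subgroup.centralizer ({t} : Set G)) => (χ : G → ℂ) x) = (m i χ : ℂ) := fun i χ => by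
    rw [← hm i χ]
    exact (classInner_indFun (Subgroup.centralizer ({t} : Set G)) (θ i) χ.2.isClassFunction).symm
  choose a b hloc1 hloc2 hloc3 hloc4 hlocw hlocm using exists_local ht e
  have hmab : ∀ i χ, m i χ = ![((a χ 0 : ℤ) - b χ 0) - (a χ 4 - b χ 4), (a χ 3 : ℤ) - b χ 3,
      ((a χ 0 : ℤ) - b χ 0) + (a χ 1 - b χ 1), ((a χ 0 : ℤ) - b χ 0) + (a χ 2 - b χ 2)] i := by
    intro i χ
    have := (hrec i χ).symm.trans (hlocm χ i)
    exact_mod_cast this
  set T : IrrCharacter G → ℤ := fun χ => -5 * m 0 χ + 4 * m 1 χ + 3 * m 2 χ + 3 * m 3 χ with hT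
  have hTt : ∀ χ : IrrCharacter G, (χ : G → ℂ) t = (T χ : ℂ) := by
    intro χ
    rw [hloc2 χ]
    congr 1
    simp only [hT, hmab]
    simp
    ring
  set d : IrrCharacter G → ℤ := fun χ => (charDegree (χ : G → ℂ) : ℤ) with hd
  have hd1 : ∀ χ : IrrCharacter G, (χ : G → ℂ) 1 = (d χ : ℂ) := fun χ => by
    rw [χ.2.apply_one_eq_charDegree]; simp [hd]
  have hdab : ∀ χ, d χ = (a χ 0 + b χ 0) + 3 * (a χ 1 + b χ 1) + 3 * (a χ 2 + b χ 2) +
      4 * (a χ 3 + b χ 3) + 5 * (a χ 4 + b χ 4) := fun χ => by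
    have := (hd1 χ).symm.trans (hloc1 χ)
    exact_mod_cast this
  let one : IrrCharacter G := ⟨fun _ => 1, isIrrCharacter_one⟩
  have hdone : d one = 1 := by
    have h : ((d one : ℤ) : ℂ) = ((1 : ℤ) : ℂ) := by
      rw [← hd1 one]; simp [one]
    exact Int.cast_injective h
  have hWsum : ∀ (F : Fin 2 × Fin 5 → ℂ), ∑ x : (Subgroup.centralizer ({t} : Set G)), F (Model.kM (e x)) = ∑ mm, F (Model.kM mm) :=
    fun F => Equiv.sum_comp e.toEquiv fun mm => F (Model.kM mm)
  have hmone : ∀ i, m i one = ![1, 0, 1, 1] i := by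
    intro i
    have h := hrec i one
    simp only [one, classInner, map_one, mul_one, hθ] at h
    rw [hWsum, Local.card_L ht e, Model.sum_kM] at h
    have hh : ((m i one : ℤ) : ℂ) = ((![1, 0, 1, 1] i : ℤ) : ℂ) := by
      rw [← h]
      fin_cases i <;> simp [Model.W, Model.phi] <;> ring
    exact_mod_cast hh
  have hinner : ∀ i j, ∑ χ, m i χ * m j χ =
      ![![4, 0, 2, 2], ![0, 2, 0, 0], ![2, 0, 4, 2], ![2, 0, 2, 4]] i j := by
    intro i j
    have h := classInner_indFun_TI (Subgroup.centralizer ({t} : Set G)) {y : G | y ^ 15 = t} hTI (hθg j).isClassFunction (hsupp i)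
      (hsupp j) (hθ1 i)
    change classInner (Φ i) (Φ j) = _ at h
    rw [classInner_eq_sum (hΦg i).isClassFunction] at h
    simp only [hm, map_intCast] at h
    have h2 : classInner (θ i) (θ j) =
        ((![![4, 0, 2, 2], ![0, 2, 0, 0], ![2, 0, 4, 2], ![2, 0, 2, 4]] i j : ℤ) : ℂ) := by
      simp only [classInner, hθr]
      simp only [hθ]
      rw [hWsum fun k => Model.W i k * Model.W j k, Local.card_L ht e,
        Model.sum_kM fun k => Model.W i k * Model.W j k]
      have := Model.al_sq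
      fin_cases i <;> fin_cases j <;> simp [Model.W, Model.phi] <;> grind
    rw [h2] at h
    exact_mod_cast h
  have hΦsum : ∀ i g, Φ i g = ∑ χ : IrrCharacter G, (m i χ : ℂ) * (χ : G → ℂ) g := by
    intro i g
    conv_lhs => rw [eq_sum_classInner (hΦg i).isClassFunction]
    simp [Finset.sum_apply, hm]
  have hdeg : ∀ i, ∑ χ, m i χ * d χ = 0 := by
    intro i
    have h := hΦsum i 1
    simp only [hΦ, indFun_apply_one, hθ1, mul_zero, hd1] at h
    exact_mod_cast h.symm
  -- the twist
  obtain ⟨h120, h16⟩ := Local.order_facts ht e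
  obtain ⟨k, hk, hk7⟩ : ∃ k : ℕ, k.Coprime (Nat.card G) ∧ k % 30 = 7 := by
    obtain ⟨r, s, hs, hg⟩ := Nat.exists_eq_pow_mul_and_not_dvd (Nat.card_pos (α := G)).ne' 5 (by norm_num)
    have hr : r ≠ 0 := by
      rintro rfl
      rw [pow_zero, one_mul] at hg
      exact hs (hg ▸ (dvd_trans (by norm_num) h120))
    have hco : Nat.Coprime (5 ^ r) s := Nat.Coprime.pow_left r ((Nat.prime_five.coprime_iff_not_dvd).2 hs)
    obtain ⟨k, hk1, hk2⟩ := Nat.chineseRemainder hco 2 1
    refine ⟨k, ?_, ?_⟩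
    · rw [hg]
      refine Nat.Coprime.mul_right ?_ ?_
      · rw [Nat.Coprime, hk1.gcd_eq]
        exact (Nat.Coprime.pow_right r (by norm_num : Nat.Coprime 2 5))
      · rw [Nat.Coprime, hk2.gcd_eq]
        simp
    · have h5 : k % 5 = 2 := Nat.ModEq.of_dvd (dvd_pow_self 5 hr) hk1
      have h6 : 6 ∣ s := by
        refine (Nat.Coprime.dvd_of_dvd_mul_left (Nat.Coprime.pow_right r (by norm_num : Nat.Coprime 6 5)) ?_)
        rw [← hg]
        exact dvd_trans (by norm_num) h120
      have h6' : k % 6 = 1 := Nat.ModEq.of_dvd h6 hk2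
      omega
  set τ : IrrCharacter G → IrrCharacter G := fun χ =>
    ⟨fun g => (χ : G → ℂ) (g ^ k), isIrrCharacter_comp_pow hk χ.2⟩ with hτ
  have hτinj : Function.Injective τ := by
    intro χ ψ h
    refine Subtype.ext (funext fun g => ?_)
    obtain ⟨x, rfl⟩ := (powBij_of_coprime hk).2 g
    exact congrFun (congrArg Subtype.val h) x
  have hdτ : ∀ χ, d (τ χ) = d χ := by
    intro χ
    have h : ((d (τ χ) : ℤ) : ℂ) = (d χ : ℂ) := by
      rw [← hd1, ← hd1]; simp [hτ]
    exact Int.cast_injective h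
  have hmτ : ∀ i χ, m i (τ χ) = m (![0, 1, 3, 2] i) χ := by
    intro i χ
    have hkL : k.Coprime (Nat.card (Subgroup.centralizer ({t} : Set G))) := hk.coprime_dvd_right (card_subgroup_dvd_card (Subgroup.centralizer ({t} : Set G)))
    have hθk : ∀ x : (Subgroup.centralizer ({t} : Set G)), θ (![0, 1, 3, 2] i) (x ^ k) = θ i x := by
      intro x
      have h1 : (e x) ^ k = (e x) ^ 7 := by
        rw [← Nat.div_add_mod k 30, hk7, pow_add, pow_mul, Model.pow_thirty, one_pow, one_mul]
      simp only [hθ, map_pow, h1, Model.W]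
      rw [Model.pow_seven]
      simp only [Model.kM]
      rw [Model.phi_twist]
      fin_cases i <;> rfl
    have h : ((m i (τ χ) : ℤ) : ℂ) = ((m (![0, 1, 3, 2] i) χ : ℤ) : ℂ) := by
      rw [← hrec, ← hrec]
      simp only [classInner]
      congr 1
      rw [← (powBij_of_coprime hkL).sum_comp fun x : (Subgroup.centralizer ({t} : Set G)) =>
        θ (![0, 1, 3, 2] i) x * conj ((χ : G → ℂ) x)]
      refine Finset.sum_congr rfl fun x _ => ?_
      rw [hθk, SubmonoidClass.coe_pow]
    exact Int.cast_injective h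
  have htwo : ∀ χ, χ ≠ one → 2 ≤ d χ := by
    intro χ hχ
    by_contra hlt
    have hpos : 0 < d χ := by simp only [hd]; exact_mod_cast χ.2.charDegree_pos
    refine hχ (Subtype.ext (degree_one_trivial ht e ?_))
    rw [hd1, show d χ = 1 by omega, Int.cast_one]
  have hsq : ∀ χ, d χ * d χ < (Nat.card G : ℤ) := by
    intro χ
    have h : ∑ ψ, d ψ * d ψ = (Nat.card G : ℤ) := by
      have h := sum_degree_mul (G := G) (1 : G)
      rw [if_pos rfl] at h
      simp only [hd1] at h
      exact_mod_cast h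
    by_cases hχ : χ = one
    · subst hχ
      rw [hdone]
      have := Nat.le_of_dvd Nat.card_pos h120
      omega
    · have h1 : ∑ ψ ∈ ({one, χ} : Finset (IrrCharacter G)), d ψ * d ψ ≤ ∑ ψ, d ψ * d ψ :=
        Finset.sum_le_univ_sum_of_nonneg fun ψ => mul_self_nonneg _
      rw [Finset.sum_pair (Ne.symm hχ), hdone, h] at h1
      omega
  have hmod : ∀ χ, (d χ - T χ) % 8 = 0 := by
    intro χ
    obtain ⟨P, hPL, -, hP, -⟩ := Local.sylow_data ht e
    haveI : Fintype (P : Subgroup G) := Fintype.ofFinite _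
    obtain ⟨n, hn⟩ := (χ.2.isCharacter.comp (P : Subgroup G).subtype).exists_nat_classInner
      (isCharacter_one (G := (P : Subgroup G)))
    simp only [classInner, map_one, mul_one, hP, Subgroup.coe_subtype, Function.comp_apply] at hn
    have hval : ∀ x ∈ Finset.univ.erase (1 : (P : Subgroup G)), (χ : G → ℂ) x = (T χ : ℂ) := by
      intro x hx
      have hx1 : (x : G) ≠ 1 := fun h => (Finset.ne_of_mem_erase hx) (Subtype.ext h)
      have h8 : (e ⟨x, hPL x.2⟩) ^ 8 = 1 := by
        rw [← map_pow, show (⟨(x : G), hPL x.2⟩ : (Subgroup.centralizer ({t} : Set G))) ^ 8 = 1 from Subtype.ext (by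
          show (x : G) ^ 8 = 1
          rw [← hP]
          exact congrArg Subtype.val (pow_card_eq_one' (x := x))), map_one]
      have h2 := Model.pow_eight _ h8
      rw [← map_mul, e.map_eq_one_iff] at h2
      obtain ⟨g, hg⟩ := isConj_iff.1 (Local.isConj_invol ht e
        (Cfsg.Lib.Invol.orderOf_eq_two_of hx1 (congrArg Subtype.val h2)))
      rw [← hg, χ.2.isClassFunction, hTt]
    rw [← Finset.add_sum_erase _ _ (Finset.mem_univ (1 : (P : Subgroup G))),
      Finset.sum_congr rfl hval, Finset.sum_const, Finset.card_erase_of_mem (Finset.mem_univ _),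
      Finset.card_univ, ← Nat.card_eq_fintype_card, hP, OneMemClass.coe_one, hd1] at hn
    have : ((d χ + 7 * T χ : ℤ) : ℂ) = ((8 * (n : ℤ) : ℤ) : ℂ) := by
      push_cast
      have h8 : (8 : ℂ) ≠ 0 := by norm_num
      field_simp at hn
      simp at hn
      linear_combination hn
    have := Int.cast_injective this
    omega
  -- sums over pairs of involutions
  have hK : ∀ χ : IrrCharacter G,
      ∑ x ∈ involFinset G, (χ : G → ℂ) x = ((Subgroup.centralizer ({t} : Set G)).index : ℂ) * (T χ : ℂ) := by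
    intro χ
    have hcl : involFinset G = classFinset t := by
      ext x
      rw [mem_involFinset, mem_classFinset]
      constructor
      · rintro ⟨h1, h2⟩
        exact Local.isConj_invol ht e (Cfsg.Lib.Invol.orderOf_eq_two_of h1 h2)
      · intro h
        obtain ⟨g, rfl⟩ := isConj_iff.1 h
        exact mem_involFinset.1 (conj_mem_involFinset g (mem_involFinset.2 ⟨htne, htt⟩))
    rw [hcl, Finset.sum_congr rfl (g := fun _ => (T χ : ℂ)) ?_, Finset.sum_const, card_classFinset,
      nsmul_eq_mul]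
    intro x hx
    obtain ⟨g, rfl⟩ := isConj_iff.1 (mem_classFinset.1 hx)
    rw [χ.2.isClassFunction, hTt]
  have hidx : (Nat.card G : ℂ) = 120 * ((Subgroup.centralizer ({t} : Set G)).index : ℂ) := by
    rw [← (Subgroup.centralizer ({t} : Set G)).card_mul_index, Local.card_L ht e]; push_cast; ring
  have hidx0 : ((Subgroup.centralizer ({t} : Set G)).index : ℂ) ≠ 0 := Nat.cast_ne_zero.2 Subgroup.index_ne_zero_of_finite
  have heqn : ∀ i, (Nat.card G : ℂ) * ∑ χ : IrrCharacter G,
      (m i χ : ℂ) * (T χ : ℂ) ^ 2 / (d χ : ℂ) = (![86400, 0, 144000, 144000] i : ℂ) := by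
    intro i
    have h1 := sum_invol_pair_eq (hΦg i).isClassFunction
    simp only [hm, hK, hd1] at h1
    have h2 := sum_invol_pair_section (Subgroup.centralizer ({t} : Set G)) (ψ := θ i) (by
      intro h hh x hx
      have h15 : (h : G) ^ 15 = t := by
        by_contra h15
        exact hh (hsupp i h h15)
      refine mem_centralizer_singleton_iff.2 (mul_inv_eq_iff_eq_mul.1 ?_)
      rw [← h15, ← conj_pow, hx, inv_pow, h15, Cfsg.Lib.Invol.inv_eq_self ht.1])
    have h3 : ∑ x ∈ involFinset (Subgroup.centralizer ({t} : Set G)), ∑ y ∈ involFinset (Subgroup.centralizer ({t} : Set G)), θ i (x * y) =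
        (![720, 0, 1200, 1200] i : ℂ) := by
      have hbij : ∑ x ∈ involFinset (Subgroup.centralizer ({t} : Set G)), ∑ y ∈ involFinset (Subgroup.centralizer ({t} : Set G)), θ i (x * y) =
          ∑ p ∈ involFinset Model.M ×ˢ involFinset Model.M, Model.W i (Model.kM (p.1 * p.2)) := by
        rw [Finset.sum_product]
        refine Finset.sum_equiv e.toEquiv (fun x => ?_) fun x _ => ?_
        · simp [mem_involFinset, ← map_mul]
        · refine Finset.sum_equiv e.toEquiv (fun y => ?_) fun y _ => ?_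
          · simp [mem_involFinset, ← map_mul]
          · simp [hθ]
      rw [hbij, ← Finset.sum_fiberwise' (involFinset Model.M ×ˢ involFinset Model.M)
        (fun p => Model.kM (p.1 * p.2)) (Model.W i)]
      simp only [Finset.sum_const, nsmul_eq_mul]
      have hc : ∀ j : Fin 5, j ≠ 1 →
          ((involFinset Model.M ×ˢ involFinset Model.M).filter
            fun p => Model.kM (p.1 * p.2) = (1, j)).card = ![30, 90, 120, 120, 120] j := fun j hj =>
        (Model.card_pairs j).resolve_right hj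
      rw [Fintype.sum_prod_type, Fin.sum_univ_two, Fin.sum_univ_five, Fin.sum_univ_five,
        hc 0 (by decide), hc 2 (by decide), hc 3 (by decide), hc 4 (by decide)]
      have hW0 : ∀ j, Model.W i (0, j) = 0 := fun j => by simp [Model.W]
      have hW1 : Model.W i (1, 1) = 0 := by fin_cases i <;> simp [Model.W, Model.phi]
      simp only [hW0, hW1, mul_zero, add_zero, zero_add]
      fin_cases i <;> simp [Model.W, Model.phi] <;> ring
    rw [h2, h3] at h1
    have h4 : ∑ χ : IrrCharacter G, (m i χ : ℂ) * ((((Subgroup.centralizer ({t} : Set G)).index : ℂ) * (T χ : ℂ)) ^ 2 / (d χ : ℂ)) =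
        ((Subgroup.centralizer ({t} : Set G)).index : ℂ) ^ 2 * ∑ χ : IrrCharacter G, (m i χ : ℂ) * (T χ : ℂ) ^ 2 / (d χ : ℂ) := by
      rw [Finset.mul_sum]
      refine Finset.sum_congr rfl fun χ _ => ?_
      ring
    rw [h4] at h1
    refine mul_left_cancel₀ hidx0 ?_
    rw [hidx]
    calc ((Subgroup.centralizer ({t} : Set G)).index : ℂ) * (120 * (Subgroup.centralizer ({t} : Set G)).index *
        ∑ χ : IrrCharacter G, (m i χ : ℂ) * (T χ : ℂ) ^ 2 / (d χ : ℂ))
        = 120 * (((Subgroup.centralizer ({t} : Set G)).index : ℂ) ^ 2 *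
            ∑ χ : IrrCharacter G, (m i χ : ℂ) * (T χ : ℂ) ^ 2 / (d χ : ℂ)) := by ring
      _ = 120 * (((Subgroup.centralizer ({t} : Set G)).index : ℂ) * (![720, 0, 1200, 1200] i : ℂ)) := by rw [← h1]
      _ = _ := by fin_cases i <;> simp <;> ring
  have heqq : ∀ i, ((Nat.card G : ℤ) : ℚ) * ∑ χ : IrrCharacter G,
      (m i χ : ℚ) * (T χ : ℚ) ^ 2 / (d χ : ℚ) = ![86400, 0, 144000, 144000] i := by
    intro i
    have h := heqn i
    have h2 : ((((Nat.card G : ℤ) : ℚ) * ∑ χ : IrrCharacter G,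
      (m i χ : ℚ) * (T χ : ℚ) ^ 2 / (d χ : ℚ) : ℚ) : ℂ) =
        ((![86400, 0, 144000, 144000] i : ℚ) : ℂ) := by
      push_cast
      rw [h]
      fin_cases i <;> simp
    exact_mod_cast h2
  let R : Virtual.Rows (IrrCharacter G) :=
    { g := (Nat.card G : ℤ), d := d, m := m, one := one, τ := τ, τ_inj := hτinj, d_τ := hdτ
      m_τ := hmτ, d_one := hdone, m_one := hmone, inner := hinner, degree := hdeg, two_le := htwo
      dvd := fun χ => Int.natCast_dvd_natCast.2 (charDegree_dvd_card χ.2)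
      sq_lt := hsq, value_mod := hmod, eqn := heqq
      g_dvd := by omega
      g_odd := by omega }
  rcases Virtual.main R with h | ⟨hg, e10, dC, he, he0, htab, hdeg10, hoff⟩
  · have : (Nat.card G : ℤ) = 175560 := h
    omega
  -- the order `189000`
  exfalso
  change (Nat.card G : ℤ) = 189000 at hg
  change e10 0 = one at he0
  change ∀ i k, m i (e10 k) = Virtual.Table i k at htab
  change ∀ k, d (e10 k) = _ at hdeg10
  change ∀ χ, (∀ k, χ ≠ e10 k) → ∀ i, m i χ = 0 at hoff
  have hTval : ∀ j, T (e10 j) = ![1, -1, -3, 3, -3, 3, 5, -5, 4, -4] j := by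
    intro j
    simp only [hT, htab]
    fin_cases j <;> simp [Virtual.Table]
  have hT0 : ∀ χ, (∀ j, χ ≠ e10 j) → T χ = 0 := fun χ h => by simp [hT, hoff χ h]
  set r : IrrCharacter G → ℤ := fun χ =>
    (a χ 0 + b χ 0) + (a χ 3 + b χ 3) - (a χ 4 + b χ 4) with hr
  have hw : ∀ χ : IrrCharacter G, (χ : G → ℂ) (Local.wG e) = (r χ : ℂ) := fun χ => hlocw χ
  obtain ⟨-, hw3, hw15⟩ := Local.wG_facts ht e
  have hΦw : ∀ i, ∑ χ, m i χ * r χ = 0 := by
    intro i
    have h := hΦsum i (Local.wG e)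
    have h0 : Φ i (Local.wG e) = 0 := by
      simp only [hΦ, indFun]
      rw [Finset.sum_eq_zero, mul_zero]
      intro x _
      by_cases hx : x⁻¹ * Local.wG e * x ∈ (Subgroup.centralizer ({t} : Set G))
      · rw [extendByZero_of_mem (Subgroup.centralizer ({t} : Set G)) _ hx]
        refine hsupp i _ fun hc => ?_
        simp only [Set.mem_setOf_eq] at hc
        have h1 : (x⁻¹ * Local.wG e * x) ^ 15 = 1 := by
          have : (x⁻¹ * Local.wG e * x⁻¹⁻¹) ^ 15 = 1 := by
            rw [conj_pow, show (15 : ℕ) = orderOf (Local.wG e) * 5 by rw [hw3], pow_mul,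
              pow_orderOf_eq_one, one_pow, mul_one, mul_inv_cancel]
          rwa [inv_inv] at this
        exact htne (hc.symm.trans h1)
      · rw [extendByZero_of_notMem (Subgroup.centralizer ({t} : Set G)) _ hx]
    rw [h0] at h
    simp only [hw] at h
    exact_mod_cast h.symm
  have hsum10 : ∀ {α : Type} [AddCommMonoid α] (F : IrrCharacter G → α),
      (∀ χ, (∀ j, χ ≠ e10 j) → F χ = 0) → ∑ χ, F χ = ∑ j, F (e10 j) := by
    intro α _ F hF
    rw [← Finset.sum_image (f := F) (g := e10) (fun x _ y _ h => he h)]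
    refine (Finset.sum_subset (Finset.subset_univ _) fun χ _ hχ => hF χ fun j hj => hχ ?_).symm
    rw [hj]; exact Finset.mem_image_of_mem _ (Finset.mem_univ _)
  have facts : ∀ j, (a (e10 j) 0 : ℤ) - b (e10 j) 0 - (a (e10 j) 4 - b (e10 j) 4) = Virtual.Table 0 j ∧
      (a (e10 j) 3 : ℤ) - b (e10 j) 3 = Virtual.Table 1 j ∧
      (a (e10 j) 0 : ℤ) - b (e10 j) 0 + (a (e10 j) 1 - b (e10 j) 1) = Virtual.Table 2 j ∧
      (a (e10 j) 0 : ℤ) - b (e10 j) 0 + (a (e10 j) 2 - b (e10 j) 2) = Virtual.Table 3 j ∧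
      (a (e10 j) 0 + b (e10 j) 0 : ℤ) - (a (e10 j) 1 + b (e10 j) 1) - (a (e10 j) 2 + b (e10 j) 2) +
        (a (e10 j) 4 + b (e10 j) 4) = ![1, -1, -3, 3, -3, 3, 5, -5, 4, -4] j ∧
      (a (e10 j) 0 + b (e10 j) 0 : ℤ) + 3 * (a (e10 j) 1 + b (e10 j) 1) +
        3 * (a (e10 j) 2 + b (e10 j) 2) + 4 * (a (e10 j) 3 + b (e10 j) 3) +
        5 * (a (e10 j) 4 + b (e10 j) 4) = ![1, 15, 21, 35, 21, 35, 21, 35, dC, dC] j := by
    intro j
    refine ⟨?_, ?_, ?_, ?_, ?_, ?_⟩
    · rw [← htab, hmab]; simp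
    · rw [← htab, hmab]; simp
    · rw [← htab, hmab]; simp
    · rw [← htab, hmab]; simp
    · have := (hTt (e10 j)).symm.trans (hloc3 (e10 j))
      rw [← hTval]
      exact_mod_cast this.symm
    · rw [← hdeg10, hdab]
  have fT : ∀ j, T (e10 j) = (a (e10 j) 0 : ℤ) - b (e10 j) 0 - (a (e10 j) 1 - b (e10 j) 1) -
      (a (e10 j) 2 - b (e10 j) 2) + (a (e10 j) 4 - b (e10 j) 4) := fun j => by
    have := (hTt (e10 j)).symm.trans (hloc4 (e10 j))
    exact_mod_cast this
  have r0 : r (e10 0) = 1 := by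
    have h : ((r (e10 0) : ℤ) : ℂ) = ((1 : ℤ) : ℂ) := by rw [← hw, he0]; simp [one]
    exact Int.cast_injective h
  have hrX : r (e10 1) = 3 := by
    obtain ⟨p0, p1, p2, p3, p4, p5⟩ := facts 1
    have := (fT 1).symm.trans (hTval 1)
    simp [Virtual.Table] at p0 p1 p2 p3 p4 p5 this
    simp only [hr]
    omega
  have hrA : r (e10 2) = 0 := by
    obtain ⟨p0, p1, p2, p3, p4, p5⟩ := facts 2
    have := (fT 2).symm.trans (hTval 2)
    simp [Virtual.Table] at p0 p1 p2 p3 p4 p5 this
    simp only [hr]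
    omega
  have hrA' : r (e10 4) = 0 := by
    obtain ⟨p0, p1, p2, p3, p4, p5⟩ := facts 4
    have := (fT 4).symm.trans (hTval 4)
    simp [Virtual.Table] at p0 p1 p2 p3 p4 p5 this
    simp only [hr]
    omega
  have hrY : r (e10 6) = 9 ∨ r (e10 6) = 3 ∨ r (e10 6) = -3 := by
    obtain ⟨p0, p1, p2, p3, p4, p5⟩ := facts 6
    have := (fT 6).symm.trans (hTval 6)
    simp [Virtual.Table] at p0 p1 p2 p3 p4 p5 this
    simp only [hr]
    omega
  obtain ⟨n5, hn5, hn50, hn5b, hh⟩ : ∃ n5 : ℤ, n5 % 2 = 1 ∧ 0 < n5 ∧ 2 * n5 ≤ dC / 4 + 3 ∧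
      r (e10 8) = dC / 4 + 3 - 3 * n5 := by
    obtain ⟨p0, p1, p2, p3, p4, p5⟩ := facts 8
    have := (fT 8).symm.trans (hTval 8)
    have hm8 := hmod (e10 8)
    rw [hTval, hdeg10] at hm8
    simp [Virtual.Table] at p0 p1 p2 p3 p4 p5 this hm8
    refine ⟨(a (e10 8) 4 : ℤ) + b (e10 8) 4, ?_⟩
    simp only [hr]
    omega
  have rel : ∀ i, ∑ j, Virtual.Table i j * r (e10 j) = 0 := fun i => by
    have h := hsum10 (fun χ => m i χ * r χ) (fun χ hχ => by rw [hoff χ hχ, zero_mul])
    rw [hΦw i] at h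
    simp only [htab] at h
    exact h.symm
  have e0 := rel 0
  have e1 := rel 1
  have e2 := rel 2
  have e3 := rel 3
  simp [Fin.sum_univ_succ, Virtual.Table, r0, hrX, hrA, hrA'] at e0 e1 e2 e3
  obtain ⟨a', b', ha', hb', hC, hN⟩ := Local.three_local ht e
  -- column of the element of order three
  have hcol : ∑ χ, r χ * r χ = (6 * (a' * b') : ℕ) := by
    have h := column_orthogonality (G := G) (Local.wG e) (Local.wG e)
    rw [if_pos (IsConj.refl _), hC] at h
    simp only [hw, map_intCast] at h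
    exact_mod_cast h
  have hcol' : ∑ j, r (e10 j) * r (e10 j) ≤ 6 * ((a' : ℤ) * b') := by
    rw [← Finset.sum_image (f := fun χ => r χ * r χ) (g := e10) (fun x _ y _ h => he h)]
    refine le_trans (Finset.sum_le_univ_sum_of_nonneg fun χ => mul_self_nonneg _) ?_
    rw [hcol]; push_cast; exact le_rfl
  -- pairs of involutions with product of order three
  have hcount : (((classFinset t ×ˢ classFinset t).filter fun p => p.1 * p.2 = Local.wG e).card) =
      Nat.card {x : G // orderOf x = 2 ∧ x * Local.wG e * x⁻¹ = (Local.wG e)⁻¹} := by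
    rw [Nat.card_eq_fintype_card, Fintype.card_subtype]
    have hcls : ∀ x : G, IsConj t x ↔ orderOf x = 2 := fun x => by
      refine ⟨fun h => ?_, Local.isConj_invol ht e⟩
      obtain ⟨g, rfl⟩ := isConj_iff.1 h
      rw [Cfsg.Lib.Invol.orderOf_conj_eq, ht.1]
    refine Finset.card_nbij' Prod.fst (fun x => (x, x⁻¹ * Local.wG e)) ?_ ?_ ?_ ?_
    · rintro ⟨x, y⟩ hp
      simp only [Finset.mem_coe, Finset.mem_filter, Finset.mem_product, mem_classFinset, hcls,
        Finset.mem_univ, true_and] at hp ⊢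
      refine ⟨hp.1.1, ?_⟩
      rw [← hp.2, mul_inv_rev, Cfsg.Lib.Invol.inv_eq_self hp.1.1, Cfsg.Lib.Invol.inv_eq_self hp.1.2,
        ← mul_assoc, Cfsg.Lib.Invol.inv_mul_self hp.1.1, one_mul]
    · intro x hx
      simp only [Finset.mem_coe, Finset.mem_filter, Finset.mem_product, mem_classFinset, hcls,
        Finset.mem_univ, true_and] at hx ⊢
      refine ⟨⟨hx.1, Cfsg.Lib.Invol.orderOf_eq_two_of (fun h => ?_) ?_⟩, mul_inv_cancel_left _ _⟩
      · have : Local.wG e = x := (inv_mul_eq_one.1 h).symm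
        rw [this, hx.1] at hw3
        exact absurd hw3 (by decide)
      · rw [Cfsg.Lib.Invol.inv_eq_self hx.1]
        calc x * Local.wG e * (x * Local.wG e) = (x * Local.wG e * x⁻¹) * (x * x) * Local.wG e := by group
          _ = 1 := by rw [hx.2, Cfsg.Lib.Invol.inv_mul_self hx.1]; group
    · rintro ⟨x, y⟩ hp
      simp only [Finset.mem_coe, Finset.mem_filter] at hp
      rw [← hp.2]; simp
    · intro x _; rfl
  have hform := card_class_product (G := G) t t (Local.wG e)
  rw [hcount, hN, card_classFinset] at hform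
  simp only [hTt, hw, hd1, map_intCast] at hform
  have hindex : (Subgroup.centralizer ({t} : Set G)).index = 1575 := by
    have := (Subgroup.centralizer ({t} : Set G)).card_mul_index
    rw [Local.card_L ht e] at this
    omega
  rw [hindex, show (Nat.card G : ℂ) = 189000 by
    rw [show Nat.card G = 189000 by omega]; norm_num] at hform
  rw [hsum10 (fun χ => (T χ : ℂ) * (T χ : ℂ) * (r χ : ℂ) / (d χ : ℂ))
    (fun χ hχ => by rw [hT0 χ hχ]; simp)] at hform
  have hdC : dC % 8 = 4 := by
    have := hmod (e10 8)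
    rw [hTval, hdeg10] at this
    simp at this
    omega
  have hdC0 : 0 < dC := by
    have h2 := htwo (e10 8) (fun h => by rw [← he0] at h; exact absurd (he h) (by decide))
    rw [hdeg10] at h2
    simp at h2
    omega
  have hB : r (e10 3) = 2 := by omega
  have hB' : r (e10 5) = 2 := by omega
  have hZ : r (e10 7) = 2 + r (e10 6) := by omega
  have hD : r (e10 9) = r (e10 8) := by omega
  simp only [hTval, hdeg10, Fin.sum_univ_succ, Fin.sum_univ_zero] at hform
  simp [r0, hrX, hrA, hrA', hB, hB', hZ, hD] at hform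
  have hd0 : (dC : ℂ) ≠ 0 := Int.cast_ne_zero.2 (by omega)
  field_simp at hform
  have hn : 3 * ((a' : ℤ) + b') * dC = (48 + 25 * r (e10 6)) * dC + 420 * r (e10 8) := by
    have : ((3 * ((a' : ℤ) + b') * dC : ℤ) : ℂ) =
        (((48 + 25 * r (e10 6)) * dC + 420 * r (e10 8) : ℤ) : ℂ) := by
      push_cast
      linear_combination (1 / (189000 * 11025) : ℂ) * hform
    exact Int.cast_injective this
  simp [Fin.sum_univ_succ, r0, hrX, hrA, hrA', hB, hB', hZ, hD] at hcol'
  have hdg : dC ∣ 189000 := by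
    have h := R.dvd (e10 8)
    change d (e10 8) ∣ (Nat.card G : ℤ) at h
    rw [hdeg10, hg] at h
    simpa using h
  have hdd : dC * dC < 189000 := by
    have h := hsq (e10 8)
    rw [hdeg10, hg] at h
    simpa using h
  refine Arith.not_189000 (d := dC) (n5 := n5) (h := r (e10 8)) (Y := -r (e10 6)) (a := (a' : ℤ))
    (b := (b' : ℤ)) hdC hdC0 hdg hdd hn5 hn50 hn5b hh (by omega) (by omega) (by omega)
    (by linarith) ?_
  linarith

end Cfsg.Lib.J1Order
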