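import Mathlib

/-!
# The arithmetic of the degree equations for an involution centralizer `2 × A₅`

`x, a, b, …` are signed degrees of the characters meeting the exceptional virtual characters.
-/

set_option autoImplicit false

namespace Cfsg.Lib.J1Order.Arith

/-- Scan for the second pair of signed degrees. -/
def scanY (x g : ℤ) : List (ℤ × ℤ × ℕ) :=
  let r : ℕ := Nat.sqrt g.toNat / 8 + 2
  (List.range (2 * r)).flatMap fun (i : ℕ) =>
    let y : ℤ := 8 * ((i : ℤ) - r) + 3
    let z : ℤ := -1 - x - y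
    let w : ℤ := 8 * ((i : ℤ) - r) + 7
    (if z % 8 = 3 ∧ g * (x * y * z + y * z + 25 * (x * z) + 25 * (x * y)) = 86400 * (x * y * z)
      then [(y, z, 0)] else []) ++
    (if x + 2 * w = -1 ∧ g * (x * w + w + 82 * x) = 86400 * (x * w) then [(w, w, 1)] else [])

/-- The first pair of signed degrees determines the order. -/
def orderOne (x a b : ℤ) : Option ℤ :=
  let den := x * a * b + a * b + 9 * (x * b) + 9 * (x * a)
  let num := 144000 * (x * a * b)
  if den = 0 then none else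
  if num % den ≠ 0 then none else
  let g := num / den
  if 0 < g ∧ g % 120 = 0 ∧ g % 16 ≠ 0 ∧ x * x < g ∧ a * a < g ∧ b * b < g then some g else none

def finalOK (x a b g : ℤ) (l : List (ℤ × ℤ × ℕ)) : Bool :=
  g == 175560 ||
    l.all fun p => decide (g = 189000 ∧ x = -15 ∧ (a = -21 ∧ b = 35 ∨ a = 35 ∧ b = -21) ∧
      (p.1 = -21 ∧ p.2.1 = 35 ∨ p.1 = 35 ∧ p.2.1 = -21) ∧ p.2.2 = 0)

def checkTriple (x a b : ℤ) : Bool :=
  match orderOne x a b with
  | none => true
  | some g => finalOK x a b g (scanY x g)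

def checkSquare : Bool :=
  (List.range 134).all fun (i : ℕ) => (List.range 134).all fun (j : ℕ) =>
    checkTriple (-1 - (8 * ((i : ℤ) - 67) + 3) - (8 * ((j : ℤ) - 67) + 3))
      (8 * ((i : ℤ) - 67) + 3) (8 * ((j : ℤ) - 67) + 3)

theorem checkSquare_eq : checkSquare = true := by decide +kernel

def checkStrip : Bool :=
  (List.range 12).all fun (i : ℕ) => (List.range 276).all fun (k : ℕ) =>
    checkTriple (8 * ((k : ℤ) - 138) + 1) (8 * ((i : ℤ) - 6) + 3)
      (-1 - (8 * ((k : ℤ) - 138) + 1) - (8 * ((i : ℤ) - 6) + 3))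

theorem checkStrip_eq : checkStrip = true := by decide +kernel

def checkStrip' : Bool :=
  (List.range 12).all fun (i : ℕ) => (List.range 276).all fun (k : ℕ) =>
    checkTriple (8 * ((k : ℤ) - 138) + 1)
      (-1 - (8 * ((k : ℤ) - 138) + 1) - (8 * ((i : ℤ) - 6) + 3)) (8 * ((i : ℤ) - 6) + 3)

theorem checkStrip'_eq : checkStrip' = true := by decide +kernel

theorem abs_lt_of_mul_self_lt {a g B : ℤ} (h : a * a < g) (hB : g ≤ B * B) (hB0 : 0 ≤ B) :
    -B < a ∧ a < B := by
  constructor <;> nlinarith [sq_nonneg (a + B), sq_nonneg (a - B)]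

theorem small_side {g x a b : ℤ} (hg : 288000 < g) (hx : x % 8 = 1) (hx2 : x ≠ 1)
    (E2 : g * (x * a * b + a * b + 9 * (x * b) + 9 * (x * a)) = 144000 * (x * a * b))
    (ha : 51 ≤ |a|) (hb : 51 ≤ |b|) : False := by
  have hxa : 7 ≤ |x| := by
    rcases abs_cases x with ⟨h, h'⟩ | ⟨h, h'⟩ <;> omega
  have hxq : (7 : ℚ) ≤ |(x : ℚ)| := by exact_mod_cast hxa
  have haq : (51 : ℚ) ≤ |(a : ℚ)| := by exact_mod_cast ha
  have hbq : (51 : ℚ) ≤ |(b : ℚ)| := by exact_mod_cast hb
  have hx0 : (x : ℚ) ≠ 0 := fun h => by rw [h, abs_zero] at hxq; linarith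
  have ha0 : (a : ℚ) ≠ 0 := fun h => by rw [h, abs_zero] at haq; linarith
  have hb0 : (b : ℚ) ≠ 0 := fun h => by rw [h, abs_zero] at hbq; linarith
  have hgq : (288000 : ℚ) < g := by exact_mod_cast hg
  have hE : (g : ℚ) * (1 + 1 / x + 9 * (1 / a) + 9 * (1 / b)) = 144000 := by
    have := congrArg (fun z : ℤ => (z : ℚ)) E2
    push_cast at this
    field_simp
    linear_combination this
  have bound : ∀ {v c : ℚ}, 0 < c → c ≤ |v| → -(1 / c) ≤ 1 / v := fun {v c} hc hv => by
    have h1 : |1 / v| ≤ 1 / c := by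
      rw [abs_div, abs_one]
      exact one_div_le_one_div_of_le hc hv
    exact (abs_le.1 h1).1
  have h1 := bound (by norm_num) hxq
  have h2 := bound (by norm_num) haq
  have h3 := bound (by norm_num) hbq
  have h4 : (288000 : ℚ) * (1 + 1 / x + 9 * (1 / a) + 9 * (1 / b)) < 144000 := by
    rw [← hE]
    exact mul_lt_mul_of_pos_right hgq (by linarith)
  linarith

theorem x_bound {g x a b : ℤ} (hg : 0 < g) (hxg : x * x < g) (ha8 : a % 8 = 3) (ha : |a| ≤ 50)
    (hab : x + a + b = -1)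
    (E2 : g * (x * a * b + a * b + 9 * (x * b) + 9 * (x * a)) = 144000 * (x * a * b)) :
    |x| ≤ 1100 := by
  by_contra hx
  push Not at hx
  have hb : 1040 ≤ |b| := by
    rcases abs_cases x with ⟨h, h'⟩ | ⟨h, h'⟩ <;> rcases abs_cases a with ⟨k, k'⟩ | ⟨k, k'⟩ <;>
      rcases abs_cases b with ⟨l, l'⟩ | ⟨l, l'⟩ <;> omega
  have hxq : (1100 : ℚ) ≤ |(x : ℚ)| := by exact_mod_cast hx.le
  have hbq : (1040 : ℚ) ≤ |(b : ℚ)| := by exact_mod_cast hb
  have hx0 : (x : ℚ) ≠ 0 := fun h => by rw [h, abs_zero] at hxq; linarith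
  have hb0 : (b : ℚ) ≠ 0 := fun h => by rw [h, abs_zero] at hbq; linarith
  have ha0 : (a : ℚ) ≠ 0 := by
    have : a ≠ 0 := by omega
    exact_mod_cast this
  have hgq : (0 : ℚ) < g := by exact_mod_cast hg
  have hbig : (1210000 : ℚ) < g := by
    have h1 : (1100 : ℤ) * 1100 ≤ |x| * |x| := mul_le_mul hx.le hx.le (by norm_num) (abs_nonneg _)
    rw [abs_mul_abs_self] at h1
    exact_mod_cast (show (1210000 : ℤ) < g by linarith)
  have hE : (g : ℚ) * (1 + 1 / x + 9 * (1 / a) + 9 * (1 / b)) = 144000 := by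
    have := congrArg (fun z : ℤ => (z : ℚ)) E2
    push_cast at this
    field_simp
    linear_combination this
  have h1 : |1 / (x : ℚ)| ≤ 1 / 1100 := by
    rw [abs_div, abs_one]; exact one_div_le_one_div_of_le (by norm_num) hxq
  have h3 : |1 / (b : ℚ)| ≤ 1 / 1040 := by
    rw [abs_div, abs_one]; exact one_div_le_one_div_of_le (by norm_num) hbq
  obtain ⟨l1, u1⟩ := abs_le.1 h1
  obtain ⟨l3, u3⟩ := abs_le.1 h3
  have hmul : ∀ {c : ℚ}, c ≤ 1 + 1 / x + 9 * (1 / a) + 9 * (1 / b) → c * g ≤ 144000 := fun {c} h => by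
    rw [← hE]
    nlinarith
  obtain ⟨la, ua⟩ := abs_le.1 ha
  have hcases : (1 : ℚ) + 9 * (1 / a) ≤ -(3 / 10) ∨ 3 / 10 ≤ (1 : ℚ) + 9 * (1 / a) := by
    interval_cases a <;> first | omega | norm_num
  rcases hcases with h | h
  · have : (g : ℚ) * (1 + 1 / x + 9 * (1 / a) + 9 * (1 / b)) ≤ 0 :=
      mul_nonpos_of_nonneg_of_nonpos hgq.le (by linarith)
    linarith
  · have := hmul (c := 1 / 4) (by linarith)
    linarith

theorem slot {v c : ℤ} {s : ℕ} (hc : 0 ≤ c) (hc' : c < 8) (hv : v % 8 = c) (hs : v.natAbs ≤ s) :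
    ((v - c) / 8 + ((s / 8 + 2 : ℕ) : ℤ)).toNat < 2 * (s / 8 + 2) ∧
      8 * ((((v - c) / 8 + ((s / 8 + 2 : ℕ) : ℤ)).toNat : ℤ) - ((s / 8 + 2 : ℕ) : ℤ)) + c = v := by
  omega

theorem of_check {g x a b : ℤ} (hg : 0 < g) (h120 : g % 120 = 0) (h16 : g % 16 ≠ 0)
    (hxg : x * x < g) (hag : a * a < g) (hbg : b * b < g) (hxab : x * a * b ≠ 0)
    (E2 : g * (x * a * b + a * b + 9 * (x * b) + 9 * (x * a)) = 144000 * (x * a * b))
    (h : checkTriple x a b = true) : finalOK x a b g (scanY x g) = true := by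
  set den := x * a * b + a * b + 9 * (x * b) + 9 * (x * a) with hden
  have hden0 : den ≠ 0 := by
    intro h0
    rw [h0, mul_zero] at E2
    exact hxab (by linarith)
  have ho : orderOne x a b = some g := by
    simp only [orderOne, ← hden, ← E2, Int.mul_emod_left, Int.mul_ediv_cancel _ hden0]
    simp [hden0, hg, h120, h16, hxg, hag, hbg]
  simpa [checkTriple, ho] using h

theorem finalOK_one {g x a b : ℤ} (hg : 0 < g) (h120 : g % 120 = 0) (h16 : g % 16 ≠ 0)
    (hx : x % 8 = 1) (hx2 : x ≠ 1) (ha : a % 8 = 3) (hb : b % 8 = 3) (hab : x + a + b = -1)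
    (hxg : x * x < g) (hag : a * a < g) (hbg : b * b < g)
    (E2 : g * (x * a * b + a * b + 9 * (x * b) + 9 * (x * a)) = 144000 * (x * a * b)) :
    finalOK x a b g (scanY x g) = true := by
  have hxab : x * a * b ≠ 0 := by
    refine mul_ne_zero (mul_ne_zero ?_ ?_) ?_ <;> omega
  refine of_check hg h120 h16 hxg hag hbg hxab E2 ?_
  by_cases hbig : g ≤ 288000
  · have h1 := abs_lt_of_mul_self_lt hag (hbig.trans (by norm_num : (288000 : ℤ) ≤ 537 * 537)) (by norm_num)
    have h2 := abs_lt_of_mul_self_lt hbg (hbig.trans (by norm_num : (288000 : ℤ) ≤ 537 * 537)) (by norm_num)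
    have := checkSquare_eq
    simp only [checkSquare, List.all_eq_true] at this
    have h := this ((a - 3) / 8 + 67).toNat (List.mem_range.2 (by omega))
      ((b - 3) / 8 + 67).toNat (List.mem_range.2 (by omega))
    have ea : 8 * ((((a - 3) / 8 + 67).toNat : ℤ) - 67) + 3 = a := by omega
    have eb : 8 * ((((b - 3) / 8 + 67).toNat : ℤ) - 67) + 3 = b := by omega
    rw [ea, eb, show -1 - a - b = x by omega] at h
    exact h
  push Not at hbig
  by_cases hs : |a| ≤ 50
  · obtain ⟨l1, u1⟩ := abs_le.1 (x_bound hg hxg ha hs hab E2)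
    obtain ⟨l2, u2⟩ := abs_le.1 hs
    have := checkStrip_eq
    simp only [checkStrip, List.all_eq_true] at this
    have h := this ((a - 3) / 8 + 6).toNat (List.mem_range.2 (by omega))
      ((x - 1) / 8 + 138).toNat (List.mem_range.2 (by omega))
    have ea : 8 * ((((a - 3) / 8 + 6).toNat : ℤ) - 6) + 3 = a := by omega
    have ex : 8 * ((((x - 1) / 8 + 138).toNat : ℤ) - 138) + 1 = x := by omega
    rw [ea, ex, show -1 - x - a = b by omega] at h
    exact h
  by_cases hs' : |b| ≤ 50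
  · obtain ⟨l1, u1⟩ := abs_le.1 (x_bound (b := a) hg hxg hb hs' (by omega) (by linear_combination E2))
    obtain ⟨l2, u2⟩ := abs_le.1 hs'
    have := checkStrip'_eq
    simp only [checkStrip', List.all_eq_true] at this
    have h := this ((b - 3) / 8 + 6).toNat (List.mem_range.2 (by omega))
      ((x - 1) / 8 + 138).toNat (List.mem_range.2 (by omega))
    have eb : 8 * ((((b - 3) / 8 + 6).toNat : ℤ) - 6) + 3 = b := by omega
    have ex : 8 * ((((x - 1) / 8 + 138).toNat : ℤ) - 138) + 1 = x := by omega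
    rw [eb, ex, show -1 - x - b = a by omega] at h
    exact h
  exact (small_side hbig hx hx2 E2 (by omega) (by omega)).elim

/-- The case of one common constituent; `m` records whether the third pair meets the norm-two
virtual character. -/
theorem caseOne {g x a b y z : ℤ} {m : ℕ} (hg : 0 < g) (h120 : g % 120 = 0) (h16 : g % 16 ≠ 0)
    (hx : x % 8 = 1) (hx2 : x ≠ 1) (ha : a % 8 = 3) (hb : b % 8 = 3) (hab : x + a + b = -1)
    (hxg : x * x < g) (hag : a * a < g) (hbg : b * b < g) (hyg : y * y < g)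
    (E2 : g * (x * a * b + a * b + 9 * (x * b) + 9 * (x * a)) = 144000 * (x * a * b))
    (hyz : x + y + z = -1)
    (E0 : (m = 0 ∧ y % 8 = 3 ∧ z % 8 = 3 ∧
        g * (x * y * z + y * z + 25 * (x * z) + 25 * (x * y)) = 86400 * (x * y * z)) ∨
      (m = 1 ∧ y % 8 = 7 ∧ z = y ∧ g * (x * y + y + 82 * x) = 86400 * (x * y))) :
    g = 175560 ∨ (g = 189000 ∧ x = -15 ∧ (a = -21 ∧ b = 35 ∨ a = 35 ∧ b = -21) ∧
      (y = -21 ∧ z = 35 ∨ y = 35 ∧ z = -21) ∧ m = 0) := by
  have h := finalOK_one hg h120 h16 hx hx2 ha hb hab hxg hag hbg E2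
  simp only [finalOK, Bool.or_eq_true, beq_iff_eq, List.all_eq_true, decide_eq_true_eq] at h
  rcases h with h | h
  · exact Or.inl h
  refine Or.inr (h (y, z, m) ?_)
  have hs : y.natAbs ≤ Nat.sqrt g.toNat := by
    rw [Nat.le_sqrt]
    have : (y.natAbs : ℤ) * y.natAbs = y * y := Int.natAbs_mul_self
    omega
  set r : ℕ := Nat.sqrt g.toNat / 8 + 2 with hrdef
  simp only [scanY, ← hrdef, List.mem_flatMap, List.mem_range, List.mem_append]
  rcases E0 with ⟨rfl, hy, hz, e⟩ | ⟨rfl, hy, rfl, e⟩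
  · obtain ⟨hlt, ey⟩ := slot (by norm_num) (by norm_num) hy hs
    rw [← hrdef] at hlt ey
    refine ⟨((y - 3) / 8 + r).toNat, hlt, Or.inl ?_⟩
    rw [ey, show -1 - x - y = z by omega]
    simp [hz, e]
  · obtain ⟨hlt, ey⟩ := slot (by norm_num) (by norm_num) hy hs
    rw [← hrdef] at hlt ey
    refine ⟨((z - 7) / 8 + r).toNat, hlt, Or.inr ?_⟩
    rw [ey]
    have : x + 2 * z = -1 := by omega
    simp [this, e]

/-- Candidates in the triangle case. -/
def checkTwo : Bool :=
  (List.range 6751).all fun (i : ℕ) =>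
    let m : ℤ := (i : ℤ) - 3375
    if m % 2 = 0 then true else
    let num := 5400 * ((2 * m + 1) * (8 * m + 5))
    if num % (m * m) ≠ 0 then true else
    let g := num / (m * m)
    let r : ℕ := Nat.sqrt g.toNat / 8 + 2
    (List.range (2 * r)).all fun (j : ℕ) =>
      let x : ℤ := 8 * ((j : ℤ) - r) + 6
      let u : ℤ := 4 * m + 2
      let a : ℤ := -1 - x - u
      decide (a = 0 ∨
        g * (x * u * a + 36 * (u * a) + 4 * (x * a) + 9 * (x * u)) ≠ 144000 * (x * u * a))

theorem checkTwo_eq : checkTwo = true := by decide +kernel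

theorem caseTwo {g x u a : ℤ} (hg : 0 < g) (hx : x % 8 = 6) (hu : u % 8 = 6) (ha : a % 8 = 3)
    (hsum : x + u + a = -1) (hxg : x * x < g)
    (E2 : g * (x * u * a + 36 * (u * a) + 4 * (x * a) + 9 * (x * u)) = 144000 * (x * u * a))
    (E0 : g * (u * (-1 - 2 * u) + 8 * (-1 - 2 * u) + 25 * u) = 86400 * (u * (-1 - 2 * u))) :
    False := by
  obtain ⟨m, rfl⟩ : ∃ m, u = 4 * m + 2 := ⟨(u - 2) / 4, by omega⟩
  have hm : m % 2 = 1 := by omega
  have key : g * (m * m) = 5400 * ((2 * m + 1) * (8 * m + 5)) := by linarith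
  have hdvd : m ∣ 27000 := ⟨g * m - 86400 * m - 97200, by linear_combination -key⟩
  have hco : IsCoprime m 8 := by
    rw [Int.isCoprime_iff_gcd_eq_one]
    have : Nat.Coprime m.natAbs (2 ^ 3) :=
      Nat.Coprime.pow_right 3 (Nat.coprime_two_right.2 (by rw [Int.natAbs_odd, Int.odd_iff]; exact hm))
    exact this
  have hdvd' : m ∣ 3375 := hco.dvd_of_dvd_mul_left (by norm_num; exact hdvd)
  have hb := Int.natAbs_le_of_dvd_ne_zero hdvd' (by norm_num)
  have h := checkTwo_eq
  simp only [checkTwo, List.all_eq_true] at h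
  have h' := h (m + 3375).toNat (List.mem_range.2 (by omega))
  have em : ((m + 3375).toNat : ℤ) - 3375 = m := by omega
  have hmm : m * m ≠ 0 := mul_ne_zero (by omega) (by omega)
  rw [em, if_neg (by omega), ← key, if_neg (by simp), Int.mul_ediv_cancel _ hmm] at h'
  simp only [List.all_eq_true, List.mem_range, decide_eq_true_eq] at h'
  set r : ℕ := Nat.sqrt g.toNat / 8 + 2 with hr
  have hs : x.natAbs ≤ Nat.sqrt g.toNat := by
    rw [Nat.le_sqrt]
    have : (x.natAbs : ℤ) * x.natAbs = x * x := Int.natAbs_mul_self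
    omega
  obtain ⟨hlt, ex⟩ := slot (by norm_num) (by norm_num) hx hs
  rw [← hr] at hlt ex
  have h'' := h' ((x - 6) / 8 + r).toNat hlt
  rw [ex, show -1 - x - (4 * m + 2) = a by omega] at h''
  rcases h'' with h'' | h''
  · omega
  · exact h'' E2

/-- The order `189000`: no choice of local data at an element of order three fits. -/
def check189000 : Bool :=
  (List.range 54).all fun (k : ℕ) =>
    let d : ℤ := 8 * (k : ℤ) + 4
    if 189000 % d ≠ 0 then true else
    (List.range 32).all fun (j : ℕ) =>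
      let n5 : ℤ := 2 * (j : ℤ) + 1
      let h : ℤ := d / 4 + 3 - 3 * n5
      [(-9 : ℤ), -3, 3].all fun Y =>
        [(1 : ℤ), 3, 5].all fun a => [(1 : ℤ), 3, 5].all fun b =>
          decide (3 * (a + b) * d ≠ (48 - 25 * Y) * d + 420 * h ∨
            6 * (a * b) < 18 + Y * Y + (2 - Y) * (2 - Y) + 2 * (h * h))

theorem check189000_eq : check189000 = true := by decide +kernel

theorem not_189000 {d n5 h Y a b : ℤ} (hd : d % 8 = 4) (hd0 : 0 < d) (hdg : d ∣ 189000)
    (hdd : d * d < 189000) (hn5 : n5 % 2 = 1) (hn50 : 0 < n5) (hn5b : 2 * n5 ≤ d / 4 + 3)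
    (hh : h = d / 4 + 3 - 3 * n5) (hY : Y = -9 ∨ Y = -3 ∨ Y = 3)
    (ha : a = 1 ∨ a = 3 ∨ a = 5) (hb : b = 1 ∨ b = 3 ∨ b = 5)
    (hn : 3 * (a + b) * d = (48 - 25 * Y) * d + 420 * h)
    (hC : 18 + Y * Y + (2 - Y) * (2 - Y) + 2 * (h * h) ≤ 6 * (a * b)) : False := by
  have hdb : d ≤ 434 := by nlinarith
  have h' := check189000_eq
  simp only [check189000, List.all_eq_true] at h'
  have h1 := h' ((d - 4) / 8).toNat (List.mem_range.2 (by omega))
  have ed : 8 * ((((d - 4) / 8).toNat : ℕ) : ℤ) + 4 = d := by omega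
  rw [ed, if_neg (by simp [Int.emod_eq_zero_of_dvd hdg])] at h1
  simp only [List.all_eq_true, List.mem_range, decide_eq_true_eq] at h1
  have h2 := h1 ((n5 - 1) / 2).toNat (by omega)
  have en : 2 * ((((n5 - 1) / 2).toNat : ℕ) : ℤ) + 1 = n5 := by omega
  rw [en, ← hh] at h2
  have h3 := h2 Y (by rcases hY with rfl | rfl | rfl <;> simp) a
    (by rcases ha with rfl | rfl | rfl <;> simp) b (by rcases hb with rfl | rfl | rfl <;> simp)
  rcases h3 with h3 | h3
  · exact h3 hn
  · omega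

end Cfsg.Lib.J1Order.Arith
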