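import Cfsg.Agent.Lib.Char.SignedIrr
import Cfsg.Agent.Lib.Char.InvolutionSum
import Mathlib.GroupTheory.SpecificGroups.Alternating

/-!
# The model `C₂ × A₅` and its generalized characters living on one section
-/

set_option autoImplicit false
set_option linter.style.haveILetI false
set_option linter.unusedSectionVars false

namespace Cfsg.Lib.J1Order.Model

open Cfsg Cfsg.Lib.Char
open scoped ComplexConjugate

abbrev A5 := alternatingGroup (Fin 5)
abbrev M := Multiplicative (ZMod 2) × A5

/-- A five-cycle. -/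
def five : A5 :=
  ⟨Equiv.swap 0 1 * Equiv.swap 1 2 * Equiv.swap 2 3 * Equiv.swap 3 4,
    Equiv.Perm.mem_alternatingGroup.2 (by decide)⟩

/-- A three-cycle. -/
def three : A5 :=
  ⟨Equiv.swap 0 1 * Equiv.swap 1 2, Equiv.Perm.mem_alternatingGroup.2 (by decide)⟩

/-- An involution inverting the three-cycle. -/
def invert : A5 :=
  ⟨Equiv.swap 0 1 * Equiv.swap 3 4, Equiv.Perm.mem_alternatingGroup.2 (by decide)⟩

/-- The central involution of the model. -/
def tM : M := (Multiplicative.ofAdd 1, 1)

/-- The five classes: `1`, involutions, order three, and two classes of order five. -/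
def cls (v : A5) : Fin 5 :=
  if v = 1 then 0 else if v * v = 1 then 1 else if v * v * v = 1 then 2
  else if ∃ c : A5, c * five * c⁻¹ = v then 3 else 4

def sgn (m : M) : Fin 2 := if m.1 = 1 then 0 else 1

def kM (m : M) : Fin 2 × Fin 5 := (sgn m, cls m.2)

theorem card_cls : ∀ j : Fin 5,
    (Finset.univ.filter fun v => cls v = j).card = ![1, 15, 20, 12, 12] j := by decide +kernel

theorem card_kM : ∀ k : Fin 2 × Fin 5,
    (Finset.univ.filter fun m => kM m = k).card = ![1, 15, 20, 12, 12] k.2 := by decide +kernel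

theorem card_pairs : ∀ j : Fin 5,
    (((Finset.univ.filter fun x : M => x ≠ 1 ∧ x * x = 1) ×ˢ
      (Finset.univ.filter fun x : M => x ≠ 1 ∧ x * x = 1)).filter
        fun p => kM (p.1 * p.2) = (1, j)).card = ![30, 90, 120, 120, 120] j ∨ j = 1 := by
  decide +kernel

theorem center_cases : ∀ m : M, (∀ n : M, m * n = n * m) → m = 1 ∨ m = tM := by decide +kernel

theorem tM_central : ∀ m : M, m * tM = tM * m := by decide +kernel

theorem pow_fifteen : ∀ m : M, m ^ 15 = tM ↔ (sgn m = 1 ∧ cls m.2 ≠ 1) := by decide +kernel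

theorem pow_seven : ∀ m : M, kM (m ^ 7) = (sgn m, ![0, 1, 2, 4, 3] (cls m.2)) := by decide +kernel

theorem pow_thirty : ∀ m : M, m ^ 30 = 1 := by decide +kernel

theorem kM_one : kM 1 = (0, 0) := by decide +kernel

/-- The number `x⁻¹ g x = five ^ j` of conjugators, by class. -/
theorem card_conj : ∀ (v : A5) (j : Fin 5),
    (Finset.univ.filter fun x : A5 => x⁻¹ * v * x = five ^ (j : ℕ)).card =
      (![![60, 0, 0, 0, 0], ![0, 0, 0, 0, 0], ![0, 0, 0, 0, 0], ![0, 5, 0, 0, 5], ![0, 0, 5, 5, 0]] :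
        Fin 5 → Fin 5 → ℕ) (cls v) j := by decide +kernel

theorem card_fixed : ∀ v : A5,
    (Finset.univ.filter fun i => (v : Equiv.Perm (Fin 5)) i = i).card = ![5, 1, 2, 0, 0] (cls v) := by
  decide +kernel

/-- The powers of the five-cycle as a homomorphism. -/
def fiveHom : Multiplicative (ZMod 5) →* A5 :=
  MonoidHom.mk' (fun j => five ^ j.toAdd.val) (by decide +kernel)

theorem fiveHom_injective : Function.Injective fiveHom := by
  intro i j h
  revert i j
  decide +kernel

noncomputable def ζ : ℂ := Complex.exp (2 * Real.pi * Complex.I / (5 : ℕ))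

theorem ζ_prim : IsPrimitiveRoot ζ 5 := Complex.isPrimitiveRoot_exp 5 (by norm_num)

theorem ζ_sum : 1 + ζ + ζ ^ 2 + ζ ^ 3 + ζ ^ 4 = 0 := by
  have := ζ_prim.geom_sum_eq_zero (by norm_num)
  simp [Finset.sum_range_succ] at this
  exact this

theorem conj_ζ : conj ζ = ζ ^ 4 := by
  have h1 : ‖ζ‖ = 1 := Complex.norm_eq_one_of_pow_eq_one ζ_prim.pow_eq_one (by norm_num)
  have h2 : conj ζ * ζ = 1 := by
    rw [mul_comm, Complex.mul_conj, Complex.normSq_eq_norm_sq, h1]; norm_num
  calc conj ζ = conj ζ * ζ ^ 5 := by rw [ζ_prim.pow_eq_one, mul_one]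
    _ = ζ ^ 4 := by linear_combination ζ ^ 4 * h2

/-- The golden ratio, as a sum of fifth roots of unity. -/
noncomputable def al : ℂ := 1 + ζ + ζ ^ 4

theorem al_sq : al * al = al + 1 := by
  simp only [al]
  linear_combination ζ_sum + (ζ ^ 3 + 2) * ζ_prim.pow_eq_one

theorem conj_al : conj al = al := by
  simp only [al, map_add, map_one, map_pow, conj_ζ]
  linear_combination (ζ ^ 11 + ζ ^ 6 + ζ) * ζ_prim.pow_eq_one

/-- The four functions spanning the class functions of `A₅` that vanish on involutions. -/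
noncomputable def phi : Fin 4 → Fin 5 → ℂ :=
  ![![-4, 0, 2, 1, 1], ![4, 0, 1, -1, -1], ![4, 0, 1, 1 + al, 2 - al], ![4, 0, 1, 2 - al, 1 + al]]

/-- The twist by the seventh power. -/
def twist : Fin 4 → Fin 4 := ![0, 1, 3, 2]

theorem phi_twist (i : Fin 4) (j : Fin 5) : phi i (![0, 1, 2, 4, 3] j) = phi (twist i) j := by
  fin_cases i <;> fin_cases j <;> simp [phi, twist]

theorem conj_phi (i : Fin 4) (j : Fin 5) : conj (phi i j) = phi i j := by
  fin_cases i <;> fin_cases j <;> simp [phi, conj_al, map_ofNat]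

/-- The induced linear character of a subgroup of order five. -/
noncomputable def lam (ω : ℂ) (hω : ω ^ 5 = 1) : Multiplicative (ZMod 5) →* ℂˣ :=
  MonoidHom.toHomUnits
    { toFun := fun j => ω ^ j.toAdd.val
      map_one' := by simp
      map_mul' := fun i j => by
        rw [← pow_add, toAdd_mul, ZMod.val_add, ← pow_eq_pow_mod _ hω] }

theorem exists_ind (ω : ℂ) (hω : ω ^ 5 = 1) :
    ∃ ψ : A5 → ℂ, IsGeneralizedCharacter A5 ψ ∧
      ∀ v, ψ v = ![12, 0, 0, ω + ω ^ 4, ω ^ 2 + ω ^ 3] (cls v) := by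
  classical
  let e := MonoidHom.ofInjective fiveHom_injective
  let θ : fiveHom.range → ℂ := fun h => ((lam ω hω).comp e.symm.toMonoidHom h : ℂ)
  refine ⟨indFun fiveHom.range θ, (isCharacter_indFun _
    (isIrrCharacter_linear ((lam ω hω).comp e.symm.toMonoidHom)).isCharacter).isGeneralized,
    fun v => ?_⟩
  have hext : ∀ y : A5, extendByZero fiveHom.range θ y =
      ∑ j : Fin 5, if y = five ^ (j : ℕ) then ω ^ (j : ℕ) else 0 := by
    intro y
    by_cases hy : y ∈ fiveHom.range
    · obtain ⟨i, rfl⟩ := hy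
      have hi : fiveHom i ∈ fiveHom.range := ⟨i, rfl⟩
      rw [extendByZero_of_mem _ _ hi]
      have hinj : ∀ j : Fin 5, fiveHom i = five ^ (j : ℕ) → j = (i.toAdd : ZMod 5) := fun j h =>
        congrArg Multiplicative.toAdd
          (fiveHom_injective (show fiveHom (Multiplicative.ofAdd (j : ZMod 5)) = fiveHom i from h.symm))
      refine ((Finset.sum_eq_single (M := ℂ) (f := fun j : Fin 5 =>
        if fiveHom i = five ^ (j : ℕ) then ω ^ (j : ℕ) else 0) (i.toAdd : ZMod 5) ?_ ?_).trans ?_).symm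
      · intro j _ hj
        exact if_neg fun h => hj (hinj j h)
      · intro h
        exact absurd (Finset.mem_univ _) h
      · refine (if_pos rfl).trans ?_
        have : e.symm ⟨fiveHom i, hi⟩ = i := by
          rw [MulEquiv.symm_apply_eq]; exact Subtype.ext rfl
        simp only [θ, MonoidHom.comp_apply, MulEquiv.coe_toMonoidHom, this]
        rfl
    · rw [extendByZero_of_notMem _ _ hy, Finset.sum_eq_zero]
      intro j _
      rw [if_neg]
      rintro rfl
      exact hy ⟨Multiplicative.ofAdd (j : ZMod 5), rfl⟩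
  have hcard : (Nat.card fiveHom.range : ℂ) = 5 := by
    rw [← Nat.card_congr e.toEquiv]
    simp
  simp only [indFun, hext, hcard]
  rw [Finset.sum_comm]
  simp only [Finset.sum_ite, Finset.sum_const_zero, add_zero, Finset.sum_const, nsmul_eq_mul,
    card_conj]
  rw [Fin.sum_univ_five]
  generalize cls v = k
  fin_cases k <;> simp <;> grind

theorem phi_isGeneralized (i : Fin 4) :
    IsGeneralizedCharacter A5 fun v => phi i (cls v) := by
  obtain ⟨ψ, hψ, eψ⟩ := exists_ind ζ ζ_prim.pow_eq_one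
  obtain ⟨ψ', hψ', eψ'⟩ := exists_ind (ζ ^ 2)
    (by rw [← pow_mul, mul_comm, pow_mul, ζ_prim.pow_eq_one, one_pow])
  obtain ⟨R, hR, eR⟩ := exists_ind 1 (one_pow 5)
  have hP : IsGeneralizedCharacter A5 fun v => phi 1 (cls v) := by
    have h := ((isCharacter_fixedCount (alternatingGroup (Fin 5)).subtype).isGeneralized).sub
      (isIrrCharacter_one (G := A5)).isGeneralized
    convert h using 1
    funext v
    simp only [Pi.sub_apply, Subgroup.coe_subtype]
    refine (show phi 1 (cls v) = ((![5, 1, 2, 0, 0] (cls v) : ℕ) : ℂ) - 1 from ?_).trans ?_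
    · generalize cls v = k
      fin_cases k <;> simp [phi] <;> norm_num
    · rw [← card_fixed v]
      congr! 4
  have key : ∀ (v : A5),
      phi 0 (cls v) = (R + ((2 : ℤ) : ℂ) • (fun v => phi 1 (cls v)) - ψ - ψ') v ∧
      phi 2 (cls v) = (R + (fun v => phi 1 (cls v)) - ψ') v ∧
      phi 3 (cls v) = (R + (fun v => phi 1 (cls v)) - ψ) v := by
    intro v
    simp only [Pi.sub_apply, Pi.add_apply, Pi.smul_apply, smul_eq_mul, eR, eψ, eψ']
    have h5 := ζ_prim.pow_eq_one
    have hs := ζ_sum
    generalize cls v = k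
    refine ⟨?_, ?_, ?_⟩ <;> fin_cases k <;> simp [phi, al] <;> grind
  fin_cases i
  · convert ((hR.add (hP.intCast_smul 2)).sub hψ).sub hψ' using 1
    exact funext fun v => (key v).1
  · exact hP
  · convert (hR.add hP).sub hψ' using 1
    exact funext fun v => (key v).2.1
  · convert (hR.add hP).sub hψ using 1
    exact funext fun v => (key v).2.2

theorem sum_cls (F : Fin 5 → ℂ) :
    ∑ v : A5, F (cls v) = F 0 + 15 * F 1 + 20 * F 2 + 12 * F 3 + 12 * F 4 := by
  rw [← Finset.sum_fiberwise' Finset.univ cls F]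
  simp only [Finset.sum_const, nsmul_eq_mul, card_cls, Fin.sum_univ_five]
  simp

theorem sum_kM (F : Fin 2 × Fin 5 → ℂ) :
    ∑ m : M, F (kM m) = F (0, 0) + 15 * F (0, 1) + 20 * F (0, 2) + 12 * F (0, 3) + 12 * F (0, 4) +
      (F (1, 0) + 15 * F (1, 1) + 20 * F (1, 2) + 12 * F (1, 3) + 12 * F (1, 4)) := by
  rw [← Finset.sum_fiberwise' Finset.univ kM F]
  simp only [Finset.sum_const, nsmul_eq_mul, card_kM, Fintype.sum_prod_type, Fin.sum_univ_two,
    Fin.sum_univ_five]
  simp

/-- The functions on the model supported on the section of the central involution. -/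
noncomputable def W (i : Fin 4) (k : Fin 2 × Fin 5) : ℂ := if k.1 = 1 then 2 * phi i k.2 else 0

theorem W_isGeneralized (i : Fin 4) : IsGeneralizedCharacter M fun m => W i (kM m) := by
  have hs : IsGeneralizedCharacter M fun m => (![1, -1] (sgn m) : ℂ) := by
    have hc : IsCharacter M fun m => (![1, -1] (sgn m) : ℂ) := by
      let f : M →* ℂˣ := MonoidHom.toHomUnits
        { toFun := fun m => ((![1, -1] (sgn m) : ℤ) : ℂ)
          map_one' := by rw [show sgn 1 = 0 by decide +kernel]; simp
          map_mul' := fun a b => by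
            rw [show (![1, -1] (sgn (a * b)) : ℤ) = ![1, -1] (sgn a) * ![1, -1] (sgn b) from ?_]
            · push_cast; ring
            · revert a b; decide +kernel }
      convert (isIrrCharacter_linear f).isCharacter using 1
      funext m
      show (![1, -1] (sgn m) : ℂ) = ((![1, -1] (sgn m) : ℤ) : ℂ)
      generalize sgn m = s
      fin_cases s <;> simp
    exact hc.isGeneralized
  have hphi := (phi_isGeneralized i).comp (MonoidHom.snd (Multiplicative (ZMod 2)) A5)
  convert ((isIrrCharacter_one (G := M)).isGeneralized.sub hs).mul hphi using 1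
  funext m
  simp only [Pi.mul_apply, Pi.sub_apply, Function.comp_apply, MonoidHom.coe_snd, W, kM]
  rcases Fin.exists_fin_two.1 ⟨sgn m, rfl⟩ with h | h <;> simp [h]
  left
  norm_num

/-- Irreducible characters of `A₅`. -/
noncomputable def chi : Fin 5 → Fin 5 → ℂ :=
  ![![1, 1, 1, 1, 1], ![3, -1, 0, al, 1 - al], ![3, -1, 0, 1 - al, al], ![4, 0, 1, -1, -1],
    ![5, 1, -1, 0, 0]]

theorem conj_chi (i : Fin 5) (j : Fin 5) : conj (chi i j) = chi i j := by
  fin_cases i <;> fin_cases j <;> simp [chi, conj_al, map_ofNat]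

theorem chi_isGeneralized (i : Fin 5) : IsGeneralizedCharacter A5 fun v => chi i (cls v) := by
  have h1 := (isIrrCharacter_one (G := A5)).isGeneralized
  have h := phi_isGeneralized
  fin_cases i
  · convert h1 using 1
    funext v; generalize cls v = k; fin_cases k <;> simp [chi]
  · convert (h 2).sub h1 using 1
    funext v; simp only [Pi.sub_apply]; generalize cls v = k; fin_cases k <;> simp [chi, phi] <;> ring
  · convert (h 3).sub h1 using 1
    funext v; simp only [Pi.sub_apply]; generalize cls v = k; fin_cases k <;> simp [chi, phi] <;> ring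
  · convert h 1 using 1
    funext v; generalize cls v = k; fin_cases k <;> simp [chi, phi]
  · convert h1.sub (h 0) using 1
    funext v; simp only [Pi.sub_apply]; generalize cls v = k; fin_cases k <;> simp [chi, phi] <;> norm_num

theorem chi_isIrr (i : Fin 5) : IsIrrCharacter A5 fun v => chi i (cls v) := by
  have hn : classInner (fun v => chi i (cls v)) (fun v => chi i (cls v)) = 1 := by
    simp only [classInner, conj_chi]
    rw [sum_cls fun k => chi i k * chi i k, show Nat.card A5 = 60 by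
      rw [Nat.card_eq_fintype_card]; decide +kernel]
    have := al_sq
    fin_cases i <;> simp [chi] <;> grind
  obtain ⟨ε, μ, hε, he⟩ := exists_signed_irr_of_norm_one (chi_isGeneralized i) hn
  obtain ⟨n, hn0, hn1⟩ := μ.2.exists_degree
  have h1 := congrFun he 1
  rw [Pi.smul_apply, smul_eq_mul, hn1, show cls 1 = 0 by decide +kernel] at h1
  rcases hε with rfl | rfl
  · rw [he]; simpa using μ.2
  · exfalso
    have h2 : ∃ c : ℕ, chi i 0 = (c + 1 : ℕ) := by
      fin_cases i
      exacts [⟨0, by simp [chi]⟩, ⟨2, by simp [chi]⟩, ⟨2, by simp [chi]⟩, ⟨3, by simp [chi]⟩,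
        ⟨4, by simp [chi]⟩]
    obtain ⟨c, hc⟩ := h2
    rw [hc] at h1
    have h3 : (((c + 1 : ℕ) : ℤ) : ℂ) = ((-1 * (n : ℤ) : ℤ) : ℂ) := by push_cast; exact_mod_cast h1
    have := Int.cast_injective h3
    omega

def wM : M := ((1 : Multiplicative (ZMod 2)), three)
def vM : M := ((1 : Multiplicative (ZMod 2)), invert)

/-- Local facts at an element of order three and an inverting involution. -/
theorem three_fixed_aux : ∀ m : M, ¬ (m * wM = wM * m ∧ m * vM = vM * m ∧ m ^ 15 = 1) ∨ m = 1 := by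
  decide +kernel

theorem three_fixed (m : M) (h1 : m * wM = wM * m) (h2 : m * vM = vM * m) (h3 : m ^ 15 = 1) :
    m = 1 := (three_fixed_aux m).resolve_left fun h => h ⟨h1, h2, h3⟩

theorem three_odd_card :
    (Finset.univ.filter fun m : M => m * wM = wM * m ∧ m ^ 15 = 1).card = 3 := by
  decide +kernel

theorem three_cent_card :
    (Finset.univ.filter fun m : M => m * wM = wM * m).card = 6 := by decide +kernel

theorem three_cls : cls three = 2 ∧ three ^ 15 = 1 ∧ invert * invert = 1 ∧ invert ≠ 1 ∧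
    invert * three * invert⁻¹ = three⁻¹ := by decide +kernel

theorem kM_t : ∀ m : M, kM m = (1, 0) ↔ m = tM := by decide +kernel

theorem kM_three : ∀ m : M, kM m ≠ (0, 2) ∨ ∃ c : M, c * wM * c⁻¹ = m := by decide +kernel

theorem kM_invol : ∀ m : M, ¬ (kM m = (0, 1) ∨ kM m = (1, 1)) ∨ (m * m = 1 ∧ m ≠ 1) := by
  decide +kernel

theorem sign_isCharacter : IsCharacter M fun m => (![1, -1] (sgn m) : ℂ) := by
  let f : M →* ℂˣ := MonoidHom.toHomUnits
    { toFun := fun m => ((![1, -1] (sgn m) : ℤ) : ℂ)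
      map_one' := by rw [show sgn 1 = 0 by decide +kernel]; simp
      map_mul' := fun a b => by
        rw [show (![1, -1] (sgn (a * b)) : ℤ) = ![1, -1] (sgn a) * ![1, -1] (sgn b) from ?_]
        · push_cast; ring
        · revert a b; decide +kernel }
  convert (isIrrCharacter_linear f).isCharacter using 1
  funext m
  show (![1, -1] (sgn m) : ℂ) = ((![1, -1] (sgn m) : ℤ) : ℂ)
  generalize sgn m = s
  fin_cases s <;> simp

theorem comm_witness : ∃ m n : M, m * n ≠ n * m := by decide +kernel

theorem pow_eight : ∀ m : M, m ^ 8 = 1 → m * m = 1 := by decide +kernel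

theorem involution_reps : ∀ m : M, ¬ (m * m = 1 ∧ m ≠ 1 ∧ m ≠ tM) ∨
    ((∃ c : M, c * m * c⁻¹ = vM) ∧ m.1 = 1) ∨ ((∃ c : M, c * m * c⁻¹ = tM * vM) ∧ m.1 ≠ 1) := by
  decide +kernel

theorem fst_tM_mul : ∀ m : M, (tM * m).1 = 1 ↔ ¬ m.1 = 1 := by decide +kernel

theorem tM_fst : ¬ tM.1 = 1 := by decide +kernel

theorem vM_facts : vM * vM = 1 ∧ vM ≠ 1 ∧ vM ≠ tM ∧ vM * wM * vM⁻¹ = wM⁻¹ := by decide +kernel

theorem snd_odd : ∀ m : M, ¬ (m.2 = 1 ∧ m ^ 15 = 1) ∨ m = 1 := by decide +kernel

theorem wM_facts : wM ^ 3 = 1 ∧ wM ≠ 1 ∧ wM ^ 15 ≠ tM := by decide +kernel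

theorem card_M : Fintype.card M = 120 ∧ Fintype.card A5 = 60 := by decide +kernel

theorem no_fifteen : ∀ a b : A5, a ^ 3 = 1 → b ^ 5 = 1 → a * b = b * a → a = 1 ∨ b = 1 := by
  decide +kernel

end Cfsg.Lib.J1Order.Model
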