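import Cfsg.Prelude.Def_SporadicB
import Cfsg.Agent.Lib.J1Order.Model
import Cfsg.Agent.Lib.Fusion.Abelian
import Cfsg.Agent.Lib.Invol.Cyclic
import Cfsg.Agent.Lib.FPF.OrderFour
import Cfsg.Agent.Lib.BSW.Basic

/-!
# Local structure of a simple group with an involution centralizer `2 × A₅`
-/

set_option autoImplicit false
set_option linter.style.haveILetI false
set_option linter.unusedSectionVars false

namespace Cfsg.Lib.J1Order.Local

open Subgroup Cfsg Cfsg.Lib.J1Order

variable {G : Type*} [Group G] [Finite G] [IsSimpleGroup G] {t : G}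
  (ht : IsTwoCentralInvolution t)
  (e : Subgroup.centralizer ({t} : Set G) ≃* Model.M)

include ht

theorem t_ne : t ≠ 1 := fun h => by simpa [h] using ht.1

theorem t_mul : t * t = 1 := Cfsg.Lib.Invol.inv_mul_self ht.1

theorem t_mem : t ∈ Subgroup.centralizer ({t} : Set G) := mem_centralizer_singleton_iff.2 rfl

include e

theorem e_t : e ⟨t, t_mem ht⟩ = Model.tM := by
  rcases Model.center_cases (e ⟨t, t_mem ht⟩) (fun n => by
    obtain ⟨x, rfl⟩ := e.surjective n
    rw [← map_mul, ← map_mul]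
    congr 1
    exact Subtype.ext (mem_centralizer_singleton_iff.1 x.2).symm) with h | h
  · exact absurd (congrArg Subtype.val (e.map_eq_one_iff.1 h)) (t_ne ht)
  · exact h

theorem card_L : Nat.card (Subgroup.centralizer ({t} : Set G)) = 120 := by
  rw [Nat.card_congr e.toEquiv, Nat.card_eq_fintype_card]
  decide +kernel

theorem sylow_data : ∃ P : Sylow 2 G, (P : Subgroup G) ≤ Subgroup.centralizer ({t} : Set G) ∧
    t ∈ (P : Subgroup G) ∧ Nat.card (P : Subgroup G) = 8 ∧ IsMulCommutative (P : Subgroup G) := by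
  obtain ⟨P, htP, hP⟩ := ht.2
  have hPL : (P : Subgroup G) ≤ Subgroup.centralizer ({t} : Set G) :=
    fun x hx => mem_centralizer_singleton_iff.2 (hP x hx)
  obtain ⟨k, hk⟩ := (IsPGroup.iff_card.1 P.2)
  have h1 : 2 ^ k ∣ 2 ^ 3 * 15 := by
    have := card_dvd_of_le hPL
    rw [hk, card_L ht e] at this
    norm_num
    exact this
  have h2 : 2 ^ k ∣ 2 ^ 3 :=
    (Nat.Coprime.pow_left k (by norm_num : Nat.Coprime 2 15)).dvd_of_dvd_mul_right h1
  have h3 : 2 ^ 3 ∣ 2 ^ k := by
    rw [← hk]
    refine P.pow_dvd_card_of_pow_dvd_card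
      (dvd_trans ?_ (Subgroup.card_subgroup_dvd_card (Subgroup.centralizer ({t} : Set G))))
    rw [card_L ht e]
    norm_num
  have hcard : Nat.card (P : Subgroup G) = 8 := by
    rw [hk]; exact (Nat.dvd_antisymm h2 h3).trans (by norm_num)
  have hsq : ∀ x ∈ (P : Subgroup G), x * x = 1 := by
    intro x hx
    have h8 : (⟨x, hPL hx⟩ : Subgroup.centralizer ({t} : Set G)) ^ 8 = 1 := by
      refine Subtype.ext ?_
      show x ^ 8 = 1
      rw [← hcard]
      exact congrArg Subtype.val (pow_card_eq_one' (x := (⟨x, hx⟩ : (P : Subgroup G))))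
    have h := congrArg e h8
    rw [map_pow, map_one] at h
    have := Model.pow_eight _ h
    rw [← map_mul] at this
    exact congrArg Subtype.val (e.map_eq_one_iff.1 this)
  refine ⟨P, hPL, htP, hcard, ⟨⟨fun a b => Subtype.ext ?_⟩⟩⟩
  have ia : (a : G)⁻¹ = a := inv_eq_of_mul_eq_one_right (hsq _ a.2)
  have ib : (b : G)⁻¹ = b := inv_eq_of_mul_eq_one_right (hsq _ b.2)
  have iab : ((a : G) * b)⁻¹ = a * b := inv_eq_of_mul_eq_one_right (hsq _ (mul_mem a.2 b.2))
  show (a : G) * b = b * a
  rw [← iab, mul_inv_rev, ia, ib]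

theorem order_facts : 120 ∣ Nat.card G ∧ ¬ 16 ∣ Nat.card G := by
  refine ⟨card_L ht e ▸ card_subgroup_dvd_card _, fun h => ?_⟩
  obtain ⟨P, -, -, hP, -⟩ := sylow_data ht e
  have := P.pow_dvd_card_of_pow_dvd_card (n := 4) (by norm_num; exact h)
  rw [hP] at this
  norm_num at this

theorem perfect : commutator G = ⊤ := by
  refine (Normal.eq_bot_or_eq_top (H := commutator G) inferInstance).resolve_left fun h => ?_
  have hc : ∀ a b : G, a * b = b * a := fun a b => by
    have := Subgroup.commutator_mem_commutator (mem_top a) (mem_top b) (H₁ := ⊤) (H₂ := ⊤)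
    rw [← commutator_def, h, mem_bot] at this
    exact commutatorElement_eq_one_iff_mul_comm.1 this
  obtain ⟨m, n, hmn⟩ := Model.comm_witness
  obtain ⟨x, rfl⟩ := e.surjective m
  obtain ⟨y, rfl⟩ := e.surjective n
  exact hmn (by rw [← map_mul, ← map_mul]; exact congrArg e (Subtype.ext (hc x y)))

/-- All involutions are conjugate. -/
theorem isConj_invol {x : G} (hx : orderOf x = 2) : IsConj t x := by
  classical
  haveI : Fact (Nat.Prime 2) := ⟨Nat.prime_two⟩
  obtain ⟨P, hPL, htP, hP, hcomm⟩ := sylow_data ht e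
  haveI := hcomm
  set N := normalizer ((P : Subgroup G) : Set G) with hN
  -- a conjugate inside `P` different from `t`
  have hmove : ∃ n ∈ N, n * t * n⁻¹ ≠ t := by
    by_contra hno
    push Not at hno
    have hfoc : (P : Subgroup G) = ⁅(P : Subgroup G), N⁆ := by
      rw [← Cfsg.Lib.Fusion.focal_eq_commutator_normalizer, ← commutator_inf_eq_focalSubgroup,
        perfect ht e, top_inf_eq]
    let Q : Sylow 2 N := P.subtype (le_normalizer)
    have hQ : Nat.card (Q : Subgroup N) = 8 := by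
      rw [show (Q : Subgroup N) = (P : Subgroup G).subgroupOf N from rfl,
        Nat.card_congr (subgroupOfEquivOfLe le_normalizer).toEquiv, hP]
    haveI : IsMulCommutative (Q : Subgroup N) := ⟨⟨fun a b => Subtype.ext (Subtype.ext (by
      have ha : ((a : N) : G) ∈ (P : Subgroup G) := a.2
      have hb : ((b : N) : G) ∈ (P : Subgroup G) := b.2
      have := congrArg Subtype.val (hcomm.is_comm.comm ⟨_, ha⟩ ⟨_, hb⟩)
      push_cast at this ⊢
      exact this))⟩⟩
    have hz : (⟨t, le_normalizer htP⟩ : N) ∈ (Q : Subgroup N) ⊓ commutator N ⊓ center N := by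
      refine ⟨⟨htP, ?_⟩, mem_center_iff.2 fun n => Subtype.ext ?_⟩
      · have h1 : ⁅(P : Subgroup G), N⁆ ≤ (commutator N).map N.subtype := by
          rw [_root_.commutator_def, map_commutator, ← MonoidHom.range_eq_map, N.range_subtype]
          exact commutator_mono le_normalizer le_rfl
        obtain ⟨y, hy, hye⟩ := h1 (hfoc ▸ htP)
        rwa [show y = ⟨t, le_normalizer htP⟩ from Subtype.ext hye] at hy
      · show (n : G) * t = t * n
        have := hno n n.2
        calc (n : G) * t = (n * t * (n : G)⁻¹) * n := by group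
          _ = t * n := by rw [this]
    rw [Cfsg.Lib.Fusion.inf_commutator_inf_center_eq_bot_sylow Q, mem_bot] at hz
    exact t_ne ht (congrArg Subtype.val hz)
  -- the two other classes inside the centralizer
  let v : G := (e.symm Model.vM : G)
  have reps := Model.involution_reps
  have cls : ∀ y : Subgroup.centralizer ({t} : Set G), (y : G) * y = 1 → (y : G) ≠ 1 → (y : G) ≠ t →
      ((e y).1 = 1 ∧ IsConj (y : G) v) ∨ ((e y).1 ≠ 1 ∧ IsConj (y : G) (t * v)) := by
    intro y h1 h2 h3
    have hconj : ∀ m : Model.M, (∃ c : Model.M, c * e y * c⁻¹ = m) → IsConj (y : G) (e.symm m : G) := by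
      rintro m ⟨c, hc⟩
      refine isConj_iff.2 ⟨e.symm c, ?_⟩
      rw [← hc, map_mul, map_mul, map_inv, e.symm_apply_apply]
      rfl
    rcases reps (e y) with h | ⟨hc, hm⟩ | ⟨hc, hm⟩
    · refine absurd ⟨?_, fun h' => h2 (congrArg Subtype.val (e.map_eq_one_iff.1 h')), fun h' => ?_⟩ h
      · rw [← map_mul, show y * y = 1 from Subtype.ext h1, map_one]
      · rw [← e_t ht e] at h'
        exact h3 (congrArg Subtype.val (e.injective h'))
    · exact Or.inl ⟨hm, hconj _ hc⟩
    · refine Or.inr ⟨hm, ?_⟩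
      have := hconj _ hc
      rwa [map_mul, ← e_t ht e, e.symm_apply_apply] at this
  have hsq : ∀ y ∈ (P : Subgroup G), y * y = 1 := fun y hy => by
    have h8 : (e ⟨y, hPL hy⟩) ^ 8 = 1 := by
      rw [← map_pow, show (⟨y, hPL hy⟩ : Subgroup.centralizer ({t} : Set G)) ^ 8 = 1 from
        Subtype.ext (by
          show y ^ 8 = 1
          rw [← hP]
          exact congrArg Subtype.val (pow_card_eq_one' (x := (⟨y, hy⟩ : (P : Subgroup G))))), map_one]
    have := Model.pow_eight _ h8
    rw [← map_mul] at this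
    exact congrArg Subtype.val (e.map_eq_one_iff.1 this)
  -- the orbit of `t` in `P`
  haveI := Fintype.ofFinite G
  set s := Finset.univ.filter fun y => y ∈ (P : Subgroup G) with hs
  set O := s.filter fun y => IsConj t y with hO
  have hs8 : s.card = 8 := by
    rw [hs, ← hP, Nat.card_eq_fintype_card, Fintype.card_subtype]
  have hOodd : Odd O.card := by
    let N' : Subgroup (ConjAct G) := N.comap ConjAct.ofConjAct.toMonoidHom
    have horb : (MulAction.orbit N' t) = (O : Set G) := by
      ext y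
      simp only [hO, hs, Finset.coe_filter, Finset.mem_filter, Finset.mem_univ, true_and,
        Set.mem_setOf_eq, MulAction.mem_orbit_iff]
      constructor
      · rintro ⟨⟨c, hc⟩, rfl⟩
        have hc' : ConjAct.ofConjAct c ∈ N := hc
        refine ⟨(mem_normalizer_iff.1 hc' t).1 htP, isConj_iff.2 ⟨ConjAct.ofConjAct c, ?_⟩⟩
        rfl
      · rintro ⟨hy, hc⟩
        obtain ⟨g, rfl⟩ := isConj_iff.1 hc
        obtain ⟨n, hn, he⟩ := Cfsg.Lib.Fusion.exists_normalizer_conj_of_abelian P htP hy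
        exact ⟨⟨ConjAct.toConjAct n, hn⟩, he⟩
    have h1 := MulAction.card_orbit_mul_card_stabilizer_eq_card_group N' t
    have hN' : Nat.card N' = Nat.card N :=
      Nat.card_congr ⟨fun a => ⟨ConjAct.ofConjAct a.1, a.2⟩, fun a => ⟨ConjAct.toConjAct a.1, a.2⟩,
        fun a => rfl, fun a => rfl⟩
    have h2 : 8 ∣ Nat.card (MulAction.stabilizer N' t) := by
      rw [← hP]
      refine Subgroup.card_dvd_of_injective
        { toFun := fun a : (P : Subgroup G) => (⟨⟨ConjAct.toConjAct (a : G), le_normalizer a.2⟩, by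
            show (a : G) * t * (a : G)⁻¹ = t
            have := congrArg Subtype.val (hcomm.is_comm.comm a ⟨t, htP⟩)
            rw [show (a : G) * t = t * a from this]
            group⟩ : MulAction.stabilizer N' t)
          map_one' := rfl
          map_mul' := fun a b => rfl } fun a b h => ?_
      exact Subtype.ext (congrArg (fun z : MulAction.stabilizer N' t => ConjAct.ofConjAct z.1.1) h)
    have h3 : ¬ 16 ∣ Nat.card N := fun h =>
      (order_facts ht e).2 (h.trans (card_subgroup_dvd_card N))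
    have h4 : Nat.card (MulAction.orbit N' t) = O.card := by
      rw [horb, Nat.card_eq_fintype_card]
      exact Fintype.card_coe O
    simp only [← Nat.card_eq_fintype_card] at h1
    rw [h4, hN'] at h1
    rw [← Nat.not_even_iff_odd]
    intro hev
    refine h3 ?_
    rw [← h1, show 16 = 2 * 8 from rfl]
    exact Nat.mul_dvd_mul hev.two_dvd h2
  let f : G → Prop := fun y => ∃ hy : y ∈ Subgroup.centralizer ({t} : Set G), (e ⟨y, hy⟩).1 = 1
  have hft : ∀ y ∈ (P : Subgroup G), (f (t * y) ↔ ¬ f y) := by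
    intro y hy
    have hyL := hPL hy
    have key := Model.fst_tM_mul
    have he : e ⟨t * y, mul_mem (t_mem ht) hyL⟩ = Model.tM * e ⟨y, hyL⟩ := by
      rw [← e_t ht e, ← map_mul]; rfl
    constructor
    · rintro ⟨h, h'⟩ ⟨k, k'⟩
      rw [he] at h'
      exact (key _).1 h' k'
    · intro h
      exact ⟨_, by rw [he]; exact (key _).2 fun k => h ⟨hyL, k⟩⟩
  set Y := s.filter f with hY
  set Z := s.filter fun y => ¬ f y with hZ
  have hYZ : Y.card = 4 ∧ Z.card = 4 := by
    have hb : Y.card = Z.card := by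
      refine Finset.card_nbij' (fun y => t * y) (fun y => t * y) ?_ ?_ ?_ ?_
      · intro y hy
        simp only [hY, hZ, hs, Finset.coe_filter, Finset.mem_filter, Finset.mem_univ, true_and,
          Set.mem_setOf_eq] at hy ⊢
        exact ⟨mul_mem htP hy.1, fun h => (hft y hy.1).1 h hy.2⟩
      · intro y hy
        simp only [hY, hZ, hs, Finset.coe_filter, Finset.mem_filter, Finset.mem_univ, true_and,
          Set.mem_setOf_eq] at hy ⊢
        exact ⟨mul_mem htP hy.1, (hft y hy.1).2 hy.2⟩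
      · intro y _; simp [← mul_assoc, t_mul ht]
      · intro y _; simp [← mul_assoc, t_mul ht]
    have h : Y.card + Z.card = s.card := by
      convert Finset.card_filter_add_card_filter_not (s := s) f
    omega
  have hft1 : ¬ f t := by
    rintro ⟨h, h'⟩
    rw [show e ⟨t, h⟩ = Model.tM from e_t ht e] at h'
    exact Model.tM_fst h'
  have hpt : ∀ {y}, y ∈ (P : Subgroup G) → f y → y ≠ 1 → IsConj y v := by
    intro y hy hf hy1
    obtain ⟨h, h'⟩ := hf
    rcases cls ⟨y, h⟩ (hsq y hy) hy1 (fun e' : y = t => hft1 (e' ▸ ⟨h, h'⟩)) with ⟨-, hc⟩ | ⟨hn, -⟩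
    · exact hc
    · exact absurd h' hn
  have hptv : ∀ {y}, y ∈ (P : Subgroup G) → ¬ f y → y ≠ t → IsConj y (t * v) := by
    intro y hy hf hyt
    have hy1 : y ≠ 1 := by rintro rfl; exact hf ⟨one_mem _, by rw [show (⟨1, _⟩ : Subgroup.centralizer ({t} : Set G)) = 1 from rfl, map_one]; rfl⟩
    rcases cls ⟨y, hPL hy⟩ (hsq y hy) hy1 hyt with ⟨hn, -⟩ | ⟨-, hc⟩
    · exact absurd ⟨_, hn⟩ hf
    · exact hc
  have hall : IsConj t v ∧ IsConj t (t * v) := by
    by_contra hnot
    refine (Nat.not_even_iff_odd.2 hOodd) ?_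
    by_cases hv : IsConj t v
    · have htv : ¬ IsConj t (t * v) := fun h => hnot ⟨hv, h⟩
      have : O = insert t (Y.erase 1) := by
        ext y
        simp only [hO, hY, hs, Finset.mem_filter, Finset.mem_univ, true_and, Finset.mem_insert,
          Finset.mem_erase]
        constructor
        · rintro ⟨hy, hc⟩
          by_cases hyt : y = t
          · exact Or.inl hyt
          refine Or.inr ⟨?_, hy, ?_⟩
          · rintro rfl
            exact t_ne ht (isConj_one_left.1 hc)
          · by_contra hf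
            exact htv (hc.trans (hptv hy hf hyt))
        · rintro (rfl | ⟨hy1, hy, hf⟩)
          · exact ⟨htP, IsConj.refl _⟩
          · exact ⟨hy, hv.trans (hpt hy hf hy1).symm⟩
      rw [this, Finset.card_insert_of_notMem (by simp [hY, hft1]), Finset.card_erase_of_mem]
      · rw [hYZ.1]; decide
      · simp only [hY, hs, Finset.mem_filter, Finset.mem_univ, true_and]
        exact ⟨one_mem _, one_mem _, by rw [show (⟨1, _⟩ : Subgroup.centralizer ({t} : Set G)) = 1 from rfl, map_one]; rfl⟩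
    · obtain ⟨n, hn, hne⟩ := hmove
      have hy := (mem_normalizer_iff.1 hn t).1 htP
      have hc : IsConj t (n * t * n⁻¹) := isConj_iff.2 ⟨n, rfl⟩
      have hf : ¬ f (n * t * n⁻¹) := fun hf => hv (hc.trans (hpt hy hf (fun h => t_ne ht (by simpa using h))))
      have htv : IsConj t (t * v) := hc.trans (hptv hy hf hne)
      have : O = Z := by
        ext y
        simp only [hO, hZ, hs, Finset.mem_filter, Finset.mem_univ, true_and]
        constructor
        · rintro ⟨h1, h2⟩
          exact ⟨h1, fun hf => hv (h2.trans (hpt h1 hf fun e' => t_ne ht (isConj_one_left.1 (e' ▸ h2))))⟩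
        · rintro ⟨h1, h2⟩
          refine ⟨h1, ?_⟩
          by_cases hyt : y = t
          · rw [hyt]
          · exact htv.trans (hptv h1 h2 hyt).symm
      rw [this, hYZ.2]
      decide
  -- an arbitrary involution
  obtain ⟨Q, hQ⟩ := (IsPGroup.of_card (n := 1) (by rw [Nat.card_zpowers, hx, pow_one]) :
    IsPGroup 2 (zpowers x)).exists_le_sylow
  obtain ⟨g, hg⟩ := MulAction.exists_smul_eq G Q P
  have h1 := smul_mem_pointwise_smul x (MulAut.conj g) (Q : Subgroup G) (hQ (mem_zpowers x))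
  have hy : g * x * g⁻¹ ∈ (P : Subgroup G) := by rw [← hg]; exact h1
  have hc : IsConj x (g * x * g⁻¹) := isConj_iff.2 ⟨g, rfl⟩
  by_cases hyt : g * x * g⁻¹ = t
  · exact (hyt ▸ hc).symm
  have hy1 : g * x * g⁻¹ ≠ 1 := fun h => by
    have : x = 1 := by simpa using h
    simp [this] at hx
  by_cases hf : f (g * x * g⁻¹)
  · exact hall.1.trans ((hpt hy hf hy1).symm.trans hc.symm)
  · exact hall.2.trans ((hptv hy hf hyt).symm.trans hc.symm)

/-- The element of order three of the centralizer. -/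
noncomputable def wG : G := (e.symm Model.wM : G)

theorem wG_facts : wG e * t = t * wG e ∧ orderOf (wG e) = 3 ∧ wG e ^ 15 ≠ t := by
  refine ⟨mem_centralizer_singleton_iff.1 (e.symm Model.wM).2, ?_, fun h => ?_⟩
  · rw [wG, Subgroup.orderOf_coe, MulEquiv.orderOf_eq]
    exact orderOf_eq_prime Model.wM_facts.1 Model.wM_facts.2.1
  · have h' : (e.symm Model.wM) ^ 15 = ⟨t, t_mem ht⟩ := Subtype.ext h
    have := congrArg e h'
    rw [map_pow, e.apply_symm_apply, e_t ht e] at this
    exact Model.wM_facts.2.2 this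

/-- The centralizer of the element of order three and the involutions inverting it. -/
theorem three_local : ∃ a b : ℕ, (a = 1 ∨ a = 3 ∨ a = 5) ∧ (b = 1 ∨ b = 3 ∨ b = 5) ∧
    Nat.card (Subgroup.centralizer ({wG e} : Set G)) = 6 * (a * b) ∧
    Nat.card {x : G // orderOf x = 2 ∧ x * wG e * x⁻¹ = (wG e)⁻¹} = 3 * (a + b) := by
  classical
  haveI : Fact (Nat.Prime 2) := ⟨Nat.prime_two⟩
  haveI := Fintype.ofFinite G
  set w := wG e with hwdef
  obtain ⟨hwt, hw3, -⟩ := wG_facts ht e
  rw [← hwdef] at hwt hw3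
  set v : G := (e.symm Model.vM : G) with hvdef
  have hvt : v * t = t * v := mem_centralizer_singleton_iff.1 (e.symm Model.vM).2
  have hvv : v * v = 1 := by
    have : e.symm Model.vM * e.symm Model.vM = 1 := by
      rw [← map_mul, Model.vM_facts.1, map_one]
    exact congrArg Subtype.val this
  have hv1 : v ≠ 1 := fun h => by
    have : e.symm Model.vM = 1 := Subtype.ext h
    rw [e.symm.map_eq_one_iff] at this
    exact Model.vM_facts.2.1 this
  have hvi : v⁻¹ = v := inv_eq_of_mul_eq_one_right hvv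
  have htt := t_mul ht
  have hti : t⁻¹ = t := inv_eq_of_mul_eq_one_right htt
  have hvw : v * w * v⁻¹ = w⁻¹ := by
    have : e.symm Model.vM * e.symm Model.wM * (e.symm Model.vM)⁻¹ = (e.symm Model.wM)⁻¹ := by
      rw [← map_inv, ← map_inv, ← map_mul, ← map_mul]
      rw [Model.vM_facts.2.2.2]
    have := congrArg Subtype.val this
    push_cast at this
    rw [hwdef, wG]
    exact this
  have htw : t * w * t⁻¹ = w := by rw [← hwt]; group
  have hwc : ((e.symm Model.wM : (Subgroup.centralizer ({t} : Set G))) : G) = w := by rw [hwdef]; rfl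
  -- transfer of local counts to the model
  have toModel : ∀ {x : G} (hx : x ∈ (Subgroup.centralizer ({t} : Set G))), x * w = w * x →
      e ⟨x, hx⟩ * Model.wM = Model.wM * e ⟨x, hx⟩ := by
    intro x hx h
    rw [show Model.wM = e (e.symm Model.wM) from (e.apply_symm_apply _).symm, ← map_mul, ← map_mul]
    exact congrArg e (Subtype.ext (by push_cast; rw [hwc]; exact h))
  have odd15 : ∀ {x : G} (hx : x ∈ (Subgroup.centralizer ({t} : Set G))), Odd (orderOf x) → (e ⟨x, hx⟩) ^ 15 = 1 := by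
    intro x hx ho
    have h1 : orderOf (e ⟨x, hx⟩) = orderOf x := by rw [MulEquiv.orderOf_eq, Subgroup.orderOf_mk]
    refine orderOf_dvd_iff_pow_eq_one.1 ?_
    have h2 : orderOf (e ⟨x, hx⟩) ∣ 2 * 15 := orderOf_dvd_of_pow_eq_one (Model.pow_thirty _)
    rw [h1] at h2 ⊢
    exact (Nat.Coprime.dvd_of_dvd_mul_left (Nat.coprime_two_right.2 ho) h2)
  set H := Subgroup.centralizer ({w} : Set G) with hH
  have hHmem : ∀ {x : G}, x ∈ H ↔ x * w = w * x := fun {x} => mem_centralizer_singleton_iff
  have htH : t ∈ H := hHmem.2 hwt.symm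
  -- `t` generates a Sylow 2-subgroup of `H`
  have h4 : ¬ 4 ∣ Nat.card H := by
    intro h4
    have hz : Nat.card (zpowers (⟨t, htH⟩ : H)) = 2 ^ 1 := by
      rw [Nat.card_zpowers, Subgroup.orderOf_mk, ht.1]; norm_num
    obtain ⟨K, hK, hle⟩ := Sylow.exists_subgroup_card_pow_prime_le 2 (G := H) (m := 2)
      h4 _ hz (by norm_num)
    have hKc := IsPGroup.commutative_of_card_eq_prime_sq (p := 2) hK
    let K' : Finset Model.M := Finset.univ.filter fun m => ∃ k : K, ∃ hk : ((k : H) : G) ∈ (Subgroup.centralizer ({t} : Set G)),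
      e ⟨_, hk⟩ = m
    have hKL : ∀ k : K, ((k : H) : G) ∈ (Subgroup.centralizer ({t} : Set G)) := fun k => mem_centralizer_singleton_iff.2
      (congrArg (fun z : K => ((z : H) : G)) (hKc k ⟨_, hle (mem_zpowers _)⟩))
    let φ : K →* Model.M :=
      { toFun := fun k => e ⟨_, hKL k⟩
        map_one' := by rw [← e.map_one]; rfl
        map_mul' := fun a b => by rw [← map_mul]; rfl }
    have hφ : Function.Injective φ := fun a b h =>
      Subtype.ext (Subtype.ext (congrArg (fun z : (Subgroup.centralizer ({t} : Set G)) => (z : G))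
        (e.injective h : (⟨_, hKL a⟩ : (Subgroup.centralizer ({t} : Set G))) = ⟨_, hKL b⟩)))
    let C : Subgroup Model.M := Subgroup.centralizer {Model.wM}
    have hle' : φ.range ≤ C := by
      rintro _ ⟨k, rfl⟩
      exact mem_centralizer_singleton_iff.2 (toModel _ (hHmem.1 (k : H).2))
    have := card_dvd_of_le hle'
    rw [← Nat.card_congr (MonoidHom.ofInjective hφ).toEquiv, hK,
      show Nat.card C = 6 by
        rw [← Model.three_cent_card, Nat.card_eq_fintype_card, Fintype.card_subtype]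
        congr 1
        ext m
        simp [C, mem_centralizer_singleton_iff]] at this
    norm_num at this
  have heven : Even (Nat.card H) := even_iff_two_dvd.2 (by
    rw [← ht.1, ← Subgroup.orderOf_mk t htH]; exact orderOf_dvd_natCard _)
  obtain ⟨K, hK⟩ : ∃ K : Subgroup H, K.index = 2 := by
    obtain ⟨T⟩ : Nonempty (Sylow 2 H) := inferInstance
    obtain ⟨k, hk⟩ := IsPGroup.iff_card.1 T.2
    have hk1 : k ≤ 1 := by
      by_contra hk2
      refine h4 (dvd_trans (pow_dvd_pow 2 (show 2 ≤ k by omega)) ?_)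
      rw [← hk]
      exact card_subgroup_dvd_card _
    refine Cfsg.Lib.Invol.exists_index_two_of_isCyclic heven T ?_
    interval_cases k
    · haveI : Subsingleton (T : Subgroup H) := (Nat.card_eq_one_iff_unique.1 hk).1
      exact isCyclic_of_subsingleton
    · exact isCyclic_of_prime_card hk
  haveI hKn := Subgroup.normal_of_index_eq_two hK
  have hKcard : Nat.card H = 2 * Nat.card K := by rw [← K.card_mul_index, hK, mul_comm]
  have hKodd : Odd (Nat.card K) := by
    rw [← Nat.not_even_iff_odd]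
    intro h
    exact h4 (by rw [hKcard]; exact Nat.mul_dvd_mul (dvd_refl 2) h.two_dvd)
  set O := K.map H.subtype with hOdef
  have hOcard : Nat.card O = Nat.card K :=
    (Nat.card_congr (K.equivMapOfInjective _ H.subtype_injective).toEquiv).symm
  have hOodd : Odd (Nat.card O) := hOcard ▸ hKodd
  have hOmem : ∀ x, x ∈ O ↔ x ∈ H ∧ Odd (orderOf x) := by
    intro x
    constructor
    · intro hx
      have h1 : orderOf (⟨x, hx⟩ : O) ∣ Nat.card O := orderOf_dvd_natCard _
      rw [Subgroup.orderOf_mk] at h1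
      obtain ⟨y, hy, rfl⟩ := hx
      exact ⟨y.2, hOodd.of_dvd_nat h1⟩
    · rintro ⟨hx, ho⟩
      refine ⟨⟨x, hx⟩, ?_, rfl⟩
      obtain ⟨k, hk⟩ := ho
      have hx2 : (⟨x, hx⟩ : H) ^ 2 ∈ K := Subgroup.sq_mem_of_index_two hK _
      have : (⟨x, hx⟩ : H) = ((⟨x, hx⟩ : H) ^ 2) ^ (k + 1) := by
        rw [← pow_mul, show 2 * (k + 1) = orderOf x + 1 by omega, pow_succ]
        rw [show (⟨x, hx⟩ : H) ^ orderOf x = 1 from Subtype.ext (pow_orderOf_eq_one x), one_mul]
      rw [this]
      exact pow_mem hx2 _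
  -- conjugation by the four involutions
  have hnorm : ∀ u : G, (u * w * u⁻¹ = w ∨ u * w * u⁻¹ = w⁻¹) → ∀ x ∈ O, u * x * u⁻¹ ∈ O := by
    intro u hu x hx
    rw [hOmem] at hx ⊢
    refine ⟨hHmem.2 ?_, by rw [Cfsg.Lib.Invol.orderOf_conj_eq]; exact hx.2⟩
    have hxw := hHmem.1 hx.1
    rcases hu with h | h
    · calc u * x * u⁻¹ * w = u * x * u⁻¹ * (u * w * u⁻¹) := by rw [h]
        _ = u * (x * w) * u⁻¹ := by group
        _ = u * (w * x) * u⁻¹ := by rw [hxw]
        _ = (u * w * u⁻¹) * (u * x * u⁻¹) := by group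
        _ = w * (u * x * u⁻¹) := by rw [h]
    · have hxw' : x * w⁻¹ = w⁻¹ * x := (Commute.inv_right (show Commute x w from hxw)).eq
      have h' : u * w⁻¹ * u⁻¹ = w := by
        calc u * w⁻¹ * u⁻¹ = (u * w * u⁻¹)⁻¹ := by group
          _ = w := by rw [h, inv_inv]
      calc u * x * u⁻¹ * w = u * x * u⁻¹ * (u * w⁻¹ * u⁻¹) := by rw [h']
        _ = u * (x * w⁻¹) * u⁻¹ := by group
        _ = u * (w⁻¹ * x) * u⁻¹ := by rw [hxw']
        _ = (u * w⁻¹ * u⁻¹) * (u * x * u⁻¹) := by group
        _ = w * (u * x * u⁻¹) := by rw [h']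
  have hfix : ∀ x ∈ O, x * t = t * x → x * v = v * x → x = 1 := by
    intro x hx h1 h2
    rw [hOmem] at hx
    have hxL : x ∈ (Subgroup.centralizer ({t} : Set G)) := mem_centralizer_singleton_iff.2 h1
    have h3 := Model.three_fixed (e ⟨x, hxL⟩) (toModel hxL (hHmem.1 hx.1)) (by
      rw [show Model.vM = e (e.symm Model.vM) from (e.apply_symm_apply _).symm, ← map_mul, ← map_mul]
      exact congrArg e (Subtype.ext h2)) (odd15 hxL hx.2)
    exact congrArg Subtype.val (e.map_eq_one_iff.1 h3)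
  set v' := t * v with hv'def
  have hv'v' : v' * v' = 1 := by
    calc t * v * (t * v) = t * (v * t) * v := by group
      _ = t * t * (v * v) := by rw [hvt]; simp only [hv'def, mul_assoc]
      _ = 1 := by rw [htt, hvv, one_mul]
  have hv'w : v' * w * v'⁻¹ = w⁻¹ := by
    calc t * v * w * (t * v)⁻¹ = t * (v * w * v⁻¹) * t⁻¹ := by group
      _ = (t * w * t⁻¹)⁻¹ := by rw [hvw]; group
      _ = w⁻¹ := by rw [htw]
  have hv'1 : v' ≠ 1 := fun h => by
    have : v = t := by rw [← hti]; exact eq_inv_of_mul_eq_one_right h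
    have : e.symm Model.vM = ⟨t, t_mem ht⟩ := Subtype.ext this
    have := congrArg e this
    rw [e.apply_symm_apply, e_t ht e] at this
    exact Model.vM_facts.2.2.1 this
  let A : G → Subgroup G := fun u => O ⊓ Subgroup.centralizer {u}
  have hAinv : ∀ u, (u * w * u⁻¹ = w⁻¹) → u * t = t * u → (∀ x, x * u = u * x → x * t = t * x →
      x * v = v * x) → (∀ x ∈ A u, t * x * t⁻¹ = x⁻¹) ∧ ∀ x ∈ A u, ∀ y ∈ A u, x * y = y * x := by
    intro u huw hut huv
    refine Cfsg.Lib.BSW.inverts_of_no_fixed htt (fun x hx => ⟨hnorm t (Or.inl htw) x hx.1, ?_⟩) ?_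
    · refine mem_centralizer_singleton_iff.2 ?_
      have hxu := mem_centralizer_singleton_iff.1 hx.2
      have h1 : t * u = u * t := hut.symm
      have h2 : t⁻¹ * u = u * t⁻¹ := by rw [hti]; exact h1
      calc t * x * t⁻¹ * u = t * x * (u * t⁻¹) := by rw [← h2]; group
        _ = t * (x * u) * t⁻¹ := by group
        _ = (t * u) * x * t⁻¹ := by rw [hxu]; group
        _ = u * (t * x * t⁻¹) := by rw [h1]; group
    · intro x hx hc
      exact hfix x hx.1 hc.symm (huv x (mem_centralizer_singleton_iff.1 hx.2) hc.symm)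
  obtain ⟨hAv, hAvc⟩ := hAinv v hvw hvt (fun x h _ => h)
  have hv't : v' * t = t * v' := by
    calc t * v * t = t * (v * t) := by group
      _ = t * (t * v) := by rw [hvt]
  obtain ⟨hAv', hAv'c⟩ := hAinv v' hv'w hv't (fun x h1 h2 => by
    calc x * v = x * (t * (t * v)) := by rw [← mul_assoc t, htt, one_mul]
      _ = (x * t) * v' := by rw [mul_assoc]
      _ = t * (x * v') := by rw [h2, mul_assoc]
      _ = t * (v' * x) := by rw [h1]
      _ = (t * t) * v * x := by simp only [hv'def, mul_assoc]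
      _ = v * x := by rw [htt, one_mul])
  -- the orders of the two fixed groups
  have hsize : ∀ u, orderOf u = 2 → (∀ x ∈ A u, ∀ y ∈ A u, x * y = y * x) →
      Nat.card (A u) = 1 ∨ Nat.card (A u) = 3 ∨ Nat.card (A u) = 5 := by
    intro u hu hc
    obtain ⟨g, hg⟩ := isConj_iff.1 (isConj_invol ht e hu).symm
    have hAL : ∀ x ∈ A u, g * x * g⁻¹ ∈ (Subgroup.centralizer ({t} : Set G)) := fun x hx => mem_centralizer_singleton_iff.2 (by
      rw [← hg]
      have := mem_centralizer_singleton_iff.1 hx.2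
      calc g * x * g⁻¹ * (g * u * g⁻¹) = g * (x * u) * g⁻¹ := by group
        _ = g * (u * x) * g⁻¹ := by rw [this]
        _ = g * u * g⁻¹ * (g * x * g⁻¹) := by group)
    let φ : A u →* Model.A5 :=
      { toFun := fun x => (e ⟨_, hAL x.1 x.2⟩).2
        map_one' := by
          rw [show (⟨_, hAL ((1 : A u) : G) (1 : A u).2⟩ : (Subgroup.centralizer ({t} : Set G))) = 1 from Subtype.ext (by simp), map_one]
          rfl
        map_mul' := fun a b => by
          rw [← Prod.snd_mul, ← map_mul]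
          congr 2
          exact Subtype.ext (by simp [mul_assoc]) }
    have hodd : Odd (Nat.card (A u)) := hOodd.of_dvd_nat (card_dvd_of_le inf_le_left)
    have hφ : Function.Injective φ := by
      rw [injective_iff_map_eq_one]
      intro x hx
      have h1 : Odd (orderOf (g * (x : G) * g⁻¹)) := by
        rw [Cfsg.Lib.Invol.orderOf_conj_eq]
        exact ((hOmem _).1 x.2.1).2
      have h2 := odd15 (hAL x.1 x.2) h1
      have key := Model.snd_odd
      have h3 := (key _).resolve_left (fun h => h ⟨hx, h2⟩)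
      have h4 := congrArg Subtype.val (e.map_eq_one_iff.1 h3)
      exact Subtype.ext (conj_eq_one_iff.1 h4)
    have h60 : Nat.card (A u) ∣ 2 ^ 2 * 15 := by
      have := Subgroup.card_dvd_of_injective φ hφ
      rwa [show Nat.card Model.A5 = 2 ^ 2 * 15 by rw [Nat.card_eq_fintype_card, Model.card_M.2]; norm_num] at this
    have h15 : Nat.card (A u) ∣ 15 :=
      (Nat.Coprime.pow_right 2 (Nat.coprime_two_right.2 hodd)).dvd_of_dvd_mul_left h60
    have h15' : Nat.card (A u) ≠ 15 := by
      intro h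
      haveI : Fact (Nat.Prime 3) := ⟨Nat.prime_three⟩
      haveI : Fact (Nat.Prime 5) := ⟨Nat.prime_five⟩
      obtain ⟨a, ha⟩ := exists_prime_orderOf_dvd_card' (G := A u) 3 (by rw [h]; norm_num)
      obtain ⟨b, hb⟩ := exists_prime_orderOf_dvd_card' (G := A u) 5 (by rw [h]; norm_num)
      rcases Model.no_fifteen (φ a) (φ b) (by rw [← map_pow, show a ^ 3 = 1 from ha ▸ pow_orderOf_eq_one a, map_one])
        (by rw [← map_pow, show b ^ 5 = 1 from hb ▸ pow_orderOf_eq_one b, map_one])
        (by rw [← map_mul, ← map_mul]; exact congrArg φ (Subtype.ext (hc _ a.2 _ b.2))) with h' | h'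
      · rw [hφ (h'.trans φ.map_one.symm), orderOf_one] at ha; omega
      · rw [hφ (h'.trans φ.map_one.symm), orderOf_one] at hb; omega
    have : Nat.card (A u) ∈ Nat.divisors 15 := Nat.mem_divisors.2 ⟨h15, by norm_num⟩
    rw [show Nat.divisors 15 = {1, 3, 5, 15} by decide] at this
    simp only [Finset.mem_insert, Finset.mem_singleton] at this
    tauto
  have hv2 : orderOf v = 2 := Cfsg.Lib.Invol.orderOf_eq_two_of hv1 hvv
  have hv'2 : orderOf v' = 2 := Cfsg.Lib.Invol.orderOf_eq_two_of hv'1 hv'v'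
  -- automorphisms of `O`
  obtain ⟨τ, τ_apply⟩ : ∃ τ : ∀ u : G, (u * w * u⁻¹ = w ∨ u * w * u⁻¹ = w⁻¹) → MulAut O,
      ∀ (u : G) hu (x : O), ((τ u hu x : O) : G) = u * x * u⁻¹ :=
    ⟨fun u hu => Cfsg.Lib.FPF.restrictAut (MulAut.conj u) O fun x hx => hnorm u hu x hx,
      fun u hu x => rfl⟩
  have τ_invol : ∀ (u : G) (hu), u * u = 1 → ∀ x, τ u hu (τ u hu x) = x := fun u hu huu x => by
    apply Subtype.ext
    rw [τ_apply, τ_apply]
    calc u * (u * x * u⁻¹) * u⁻¹ = (u * u) * x * (u * u)⁻¹ := by group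
      _ = x := by rw [huu]; simp
  have fixcard : ∀ (u : G) (hu), Nat.card ((τ u hu).toMonoidHom.eqLocus (MonoidHom.id O)) =
      Nat.card (A u) := by
    intro u hu
    refine Nat.card_congr ⟨fun x => ⟨x.1.1, x.1.2, mem_centralizer_singleton_iff.2 ?_⟩,
      fun x => ⟨⟨x.1, x.2.1⟩, Subtype.ext ?_⟩, fun x => rfl, fun x => rfl⟩
    · have h := congrArg Subtype.val x.2
      simp only [MulEquiv.coe_toMonoidHom, MonoidHom.id_apply, τ_apply] at h
      calc (x.1.1 : G) * u = u * x.1.1 * u⁻¹ * u := by rw [h]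
        _ = u * x.1.1 := by group
    · simp only [MulEquiv.coe_toMonoidHom, MonoidHom.id_apply, τ_apply]
      rw [← mem_centralizer_singleton_iff.1 x.2.2]; group
  have hinvcard : ∀ (u : G) (hu), u * u = 1 →
      Nat.card {x : O // τ u hu x = x⁻¹} * Nat.card (A u) = Nat.card O := by
    intro u hu huu
    rw [Cfsg.Lib.FPF.card_inverted _ (τ_invol u hu huu) hOodd, ← fixcard u hu, mul_comm]
    exact Subgroup.card_mul_index _
  have hA3 : Nat.card (A t) = 3 := by
    rw [← Model.three_odd_card, Nat.card_eq_fintype_card, ← Fintype.card_coe]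
    refine Fintype.card_congr (Equiv.ofBijective
      (fun x => ⟨e ⟨x.1, x.2.2⟩, Finset.mem_filter.2 ⟨Finset.mem_univ _,
        toModel x.2.2 (hHmem.1 ((hOmem _).1 x.2.1).1), odd15 x.2.2 ((hOmem _).1 x.2.1).2⟩⟩)
      ⟨fun a b h => Subtype.ext (congrArg Subtype.val (e.injective (congrArg Subtype.val h)) :),
        fun m => ?_⟩)
    obtain ⟨h1, h2⟩ := (Finset.mem_filter.1 m.2).2
    have hm : ((e.symm m.1 : (Subgroup.centralizer ({t} : Set G))) : G) ∈ O := by
      refine (hOmem _).2 ⟨hHmem.2 ?_, ?_⟩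
      · have := congrArg e.symm h1
        rw [map_mul, map_mul] at this
        have := congrArg Subtype.val this
        push_cast at this
        rw [hwc] at this
        exact this
      · rw [Subgroup.orderOf_coe, MulEquiv.orderOf_eq]
        exact Odd.of_dvd_nat (by decide) (orderOf_dvd_of_pow_eq_one h2)
    exact ⟨⟨_, hm, (e.symm m.1).2⟩, Subtype.ext (by simp)⟩
  -- every element inverted by `t` splits
  have htu : t * w * t⁻¹ = w ∨ t * w * t⁻¹ = w⁻¹ := Or.inl htw
  have hvu : v * w * v⁻¹ = w ∨ v * w * v⁻¹ = w⁻¹ := Or.inr hvw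
  have hv'u : v' * w * v'⁻¹ = w ∨ v' * w * v'⁻¹ = w⁻¹ := Or.inr hv'w
  set τt := τ t htu with hτt
  set τv := τ v hvu with hτv
  have hcomm : ∀ x, τv (τt x) = τt (τv x) := fun x => by
    apply Subtype.ext
    rw [hτv, hτt, τ_apply, τ_apply, τ_apply, τ_apply]
    calc v * (t * x * t⁻¹) * v⁻¹ = (v * t) * x * (v * t)⁻¹ := by group
      _ = (t * v) * x * (t * v)⁻¹ := by rw [hvt]
      _ = t * (v * x * v⁻¹) * t⁻¹ := by group
  have hsqrt : ∀ (σ : MulAut O) (x y : O), y * y = x → ∀ z : O, z * z = σ x → σ y = z := by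
    intro σ x y hy z hz
    have : (σ y) ^ 2 = z ^ 2 := by rw [pow_two, pow_two, ← map_mul, hy, hz]
    exact (powCoprime (Nat.coprime_two_right.2 hOodd)).injective this
  have split : Nat.card {x : O // τt x = x⁻¹} = Nat.card (A v) * Nat.card (A v') := by
    rw [← Nat.card_prod]
    let F : A v × A v' → {x : O // τt x = x⁻¹} := fun p =>
      ⟨⟨p.1.1, p.1.2.1⟩ * ⟨p.2.1, p.2.2.1⟩ * ⟨p.1.1, p.1.2.1⟩, by
        apply Subtype.ext
        rw [hτt, τ_apply]
        push_cast
        calc t * (p.1.1 * p.2.1 * p.1.1) * t⁻¹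
            = (t * p.1.1 * t⁻¹) * (t * p.2.1 * t⁻¹) * (t * p.1.1 * t⁻¹) := by group
          _ = (p.1.1 * p.2.1 * p.1.1)⁻¹ := by rw [hAv _ p.1.2, hAv' _ p.2.2]; group⟩
    refine (Nat.card_congr (Equiv.ofBijective F ⟨?_, ?_⟩)).symm
    · rintro ⟨a, b⟩ ⟨a', b'⟩ h
      have h1 : (a : G) * b * a = a' * b' * a' := congrArg (fun z => ((z.1 : O) : G)) h
      have hav : ∀ a : A v, v * (a : G) * v⁻¹ = a := fun a => by
        rw [← mem_centralizer_singleton_iff.1 a.2.2]; group
      have hbv : ∀ b : A v', v * (b : G) * v⁻¹ = (b : G)⁻¹ := fun b => by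
        have h2 : v' * (b : G) * v'⁻¹ = b := by
          rw [← mem_centralizer_singleton_iff.1 b.2.2]; group
        have h3 : v = t * v' := by rw [hv'def, ← mul_assoc, htt, one_mul]
        calc v * (b : G) * v⁻¹ = t * (v' * b * v'⁻¹) * t⁻¹ := by rw [h3]; group
          _ = (b : G)⁻¹ := by rw [h2, hAv' _ b.2]
      have h2 : (a : G) * (b : G)⁻¹ * a = a' * (b' : G)⁻¹ * a' := by
        have := congrArg (fun z => v * z * v⁻¹) h1
        calc (a : G) * (b : G)⁻¹ * a = (v * a * v⁻¹) * (v * b * v⁻¹) * (v * a * v⁻¹) := by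
              rw [hav, hbv]
          _ = v * (a * b * a) * v⁻¹ := by group
          _ = v * (a' * b' * a') * v⁻¹ := this
          _ = (v * a' * v⁻¹) * (v * b' * v⁻¹) * (v * a' * v⁻¹) := by group
          _ = a' * (b' : G)⁻¹ * a' := by rw [hav, hbv]
      set c : G := (a' : G)⁻¹ * a with hc
      have hcA : c ∈ A v := mul_mem (inv_mem a'.2) a.2
      have hc' : (a : G) * (a' : G)⁻¹ = c := by rw [hc]; exact hAvc _ a.2 _ (inv_mem a'.2)
      have e1 : c * b * c = b' := by
        calc c * b * c = (a' : G)⁻¹ * a * b * ((a : G) * (a' : G)⁻¹) := by rw [hc', hc]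
          _ = (a' : G)⁻¹ * (a * b * a) * (a' : G)⁻¹ := by group
          _ = b' := by rw [h1]; group
      have e2 : c * (b : G)⁻¹ * c = (b' : G)⁻¹ := by
        calc c * (b : G)⁻¹ * c = (a' : G)⁻¹ * a * (b : G)⁻¹ * ((a : G) * (a' : G)⁻¹) := by rw [hc', hc]
          _ = (a' : G)⁻¹ * (a * (b : G)⁻¹ * a) * (a' : G)⁻¹ := by group
          _ = (b' : G)⁻¹ := by rw [h2]; group
      have e3 : (b : G) * (c * c) * (b : G)⁻¹ = (c * c)⁻¹ := by
        have : c * b * c * (c * (b : G)⁻¹ * c) = 1 := by rw [e1, e2, mul_inv_cancel]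
        calc (b : G) * (c * c) * (b : G)⁻¹ = c⁻¹ * (c * b * c * (c * (b : G)⁻¹ * c)) * c⁻¹ := by group
          _ = (c * c)⁻¹ := by rw [this]; group
      -- conjugation of odd order cannot invert a nontrivial element
      have hbo : Odd (orderOf (b : G)) := ((hOmem _).1 b.2.1).2
      have hiter : ∀ n : ℕ, (b : G) ^ (2 * n + 1) * (c * c) * ((b : G) ^ (2 * n + 1))⁻¹ = (c * c)⁻¹ := by
        intro n
        induction n with
        | zero => simpa using e3
        | succ n ih =>
          have e4 : (b : G) * (c * c)⁻¹ * (b : G)⁻¹ = c * c := by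
            calc (b : G) * (c * c)⁻¹ * (b : G)⁻¹ = ((b : G) * (c * c) * (b : G)⁻¹)⁻¹ := by group
              _ = c * c := by rw [e3, inv_inv]
          calc (b : G) ^ (2 * (n + 1) + 1) * (c * c) * ((b : G) ^ (2 * (n + 1) + 1))⁻¹
              = b * (b * ((b : G) ^ (2 * n + 1) * (c * c) * ((b : G) ^ (2 * n + 1))⁻¹) *
                  (b : G)⁻¹) * (b : G)⁻¹ := by
                rw [show 2 * (n + 1) + 1 = (2 * n + 1) + 1 + 1 by ring, pow_succ', pow_succ']
                group
            _ = (c * c)⁻¹ := by rw [ih, e4, e3]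
      obtain ⟨n, hn⟩ := hbo
      have h5 := hiter n
      rw [← hn, pow_orderOf_eq_one, one_mul, inv_one, mul_one] at h5
      have hcO : c ∈ O := hcA.1
      have hc2 : (⟨c, hcO⟩ : O) ^ 2 = 1 := by
        have h6 : ((⟨c, hcO⟩ : O) ^ 2) ^ 2 = 1 ^ 2 := by
          rw [one_pow, pow_two, pow_two]
          refine Subtype.ext ?_
          push_cast
          exact eq_inv_iff_mul_eq_one.1 h5
        exact (powCoprime (Nat.coprime_two_right.2 hOodd)).injective h6
      have hc1 : (⟨c, hcO⟩ : O) = 1 := by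
        have h6 : (⟨c, hcO⟩ : O) ^ 2 = 1 ^ 2 := by rw [one_pow]; exact hc2
        exact (powCoprime (Nat.coprime_two_right.2 hOodd)).injective h6
      have hc0 : c = 1 := congrArg Subtype.val hc1
      have haa : a = a' := Subtype.ext (inv_mul_eq_one.1 (hc ▸ hc0)).symm
      subst haa
      refine Prod.ext rfl (Subtype.ext ?_)
      rw [hc0, one_mul, mul_one] at e1
      exact e1
    · rintro ⟨i, hi⟩
      set j := τv i with hj
      obtain ⟨s, hs⟩ : ∃ s : O, s * s = j * i⁻¹ :=
        ⟨(powCoprime (Nat.coprime_two_right.2 hOodd)).symm (j * i⁻¹), by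
          rw [← pow_two]; exact (powCoprime (Nat.coprime_two_right.2 hOodd)).apply_symm_apply _⟩
      obtain ⟨a, ha⟩ : ∃ a : O, a * a = s * i :=
        ⟨(powCoprime (Nat.coprime_two_right.2 hOodd)).symm (s * i), by
          rw [← pow_two]; exact (powCoprime (Nat.coprime_two_right.2 hOodd)).apply_symm_apply _⟩
      have hvj : τv j = i := τ_invol v hvu hvv i
      have hvs : τv s = s⁻¹ := hsqrt τv _ s hs _ (by
        rw [← mul_inv_rev, hs, map_mul, map_inv, hvj, ← hj]; group)
      have hts : τt s = i⁻¹ * s⁻¹ * i := hsqrt τt _ s hs _ (by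
        rw [map_mul, map_inv, hi, hj, ← hcomm, hi, map_inv, inv_inv, ← hj]
        calc i⁻¹ * s⁻¹ * i * (i⁻¹ * s⁻¹ * i) = i⁻¹ * (s * s)⁻¹ * i := by group
          _ = j⁻¹ * i := by rw [hs]; group)
      have hva : τv a = a := hsqrt τv _ a ha _ (by
        rw [ha, map_mul, hvs, ← hj]
        calc s * i = s⁻¹ * (s * s) * i := by group
          _ = s⁻¹ * j := by rw [hs]; group)
      have hta : τt a = a⁻¹ := hsqrt τt _ a ha _ (by
        rw [← mul_inv_rev, ha, map_mul, hts, hi]; group)
      have hji : a * a * i⁻¹ * (a * a) = j := by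
        rw [ha]
        calc s * i * i⁻¹ * (s * i) = (s * s) * i := by group
          _ = j := by rw [hs]; group
      set b := a⁻¹ * i * a⁻¹ with hb
      have hvb : τv b = b⁻¹ := by
        rw [hb, map_mul, map_mul, map_inv, hva, ← hj, ← hji]; group
      have htb : τt b = b⁻¹ := by
        rw [hb, map_mul, map_mul, map_inv, hta, hi]; group
      have hav : (a : G) ∈ A v := ⟨a.2, mem_centralizer_singleton_iff.2 (by
        have h := congrArg Subtype.val hva
        rw [hτv, τ_apply] at h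
        calc (a : G) * v = v * a * v⁻¹ * v := by rw [h]
          _ = v * a := by group)⟩
      have hbv' : (b : G) ∈ A v' := ⟨b.2, mem_centralizer_singleton_iff.2 (by
        have h := congrArg Subtype.val hvb
        have h' := congrArg Subtype.val htb
        rw [hτv, τ_apply] at h
        rw [hτt, τ_apply] at h'
        push_cast at h h'
        have : v' * (b : G) * v'⁻¹ = b := by
          calc v' * (b : G) * v'⁻¹ = t * (v * b * v⁻¹) * t⁻¹ := by rw [hv'def]; group
            _ = (t * b * t⁻¹)⁻¹ := by rw [h]; group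
            _ = b := by rw [h', inv_inv]
        calc (b : G) * v' = v' * b * v'⁻¹ * v' := by rw [this]
          _ = v' * b := by group)⟩
      refine ⟨(⟨a, hav⟩, ⟨b, hbv'⟩), Subtype.ext ?_⟩
      show a * b * a = i
      rw [hb]; group
  have hOabc : Nat.card O = 3 * (Nat.card (A v) * Nat.card (A v')) := by
    rw [← hinvcard t htu htt, split, hA3, mul_comm]
  refine ⟨Nat.card (A v), Nat.card (A v'), hsize v hv2 hAvc, hsize v' hv'2 hAv'c, ?_, ?_⟩
  · rw [hKcard, ← hOcard, hOabc]; ring
  -- inverting involutions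
  have hcases : ∀ x : G, x * w * x⁻¹ = w⁻¹ → v * x ∈ O ∨ v' * x ∈ O := by
    intro x hx
    have hxH : v * x ∈ H := hHmem.2 (by
      calc v * x * w = v * (x * w * x⁻¹) * x := by group
        _ = (v * w * v⁻¹)⁻¹ * (v * x) := by rw [hx]; group
        _ = w * (v * x) := by rw [hvw, inv_inv])
    by_cases hk : (⟨v * x, hxH⟩ : H) ∈ K
    · exact Or.inl ⟨_, hk, rfl⟩
    · right
      have htK : (⟨t, htH⟩ : H) ∉ K := fun h => by
        have := ((hOmem t).1 ⟨_, h, rfl⟩).2
        rw [ht.1] at this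
        exact absurd this (by decide)
      refine ⟨⟨t, htH⟩ * ⟨v * x, hxH⟩, ?_, ?_⟩
      · rw [SetLike.mem_coe, Subgroup.mul_mem_iff_of_index_two hK]
        exact iff_of_false htK hk
      · show t * (v * x) = v' * x
        rw [hv'def]; group
  have hsame : ∀ x : G, ¬ (v * x ∈ O ∧ v' * x ∈ O) := fun x ⟨h1, h2⟩ => by
    have := mul_mem h2 (inv_mem h1)
    rw [show v' * x * (v * x)⁻¹ = t by rw [hv'def]; group] at this
    have h3 := ((hOmem t).1 this).2
    rw [ht.1] at h3
    exact absurd h3 (by decide)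
  have hpart : ∀ (u : G) (hu : u * w * u⁻¹ = w⁻¹), u * u = 1 → u ∉ H →
      Nat.card {x : G // (orderOf x = 2 ∧ x * w * x⁻¹ = w⁻¹) ∧ u * x ∈ O} =
      Nat.card {x : O // τ u (Or.inr hu) x = x⁻¹} := by
    intro u hu huu huH
    have hui : u⁻¹ = u := inv_eq_of_mul_eq_one_right huu
    refine Nat.card_congr ⟨fun x => ⟨⟨u * x.1, x.2.2⟩, Subtype.ext ?_⟩,
      fun m => ⟨u * m.1.1, ⟨?_, ?_⟩, ?_⟩, fun x => Subtype.ext ?_, fun m => Subtype.ext (Subtype.ext ?_)⟩
    · rw [τ_apply]
      have hxx := Cfsg.Lib.Invol.inv_eq_self x.2.1.1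
      show u * (u * x.1) * u⁻¹ = (u * x.1)⁻¹
      rw [mul_inv_rev, hxx, ← mul_assoc u u, huu, one_mul]
    · have h := congrArg Subtype.val m.2
      rw [τ_apply] at h
      push_cast at h
      have h2 : u * (m.1 : G) * (u * m.1) = 1 := by
        calc u * (m.1 : G) * (u * m.1) = (u * m.1 * u⁻¹) * (u * u) * m.1 := by group
          _ = 1 := by rw [huu, h]; group
      refine Cfsg.Lib.Invol.orderOf_eq_two_of (fun e' => huH ?_) h2
      have : u = (m.1 : G)⁻¹ := eq_inv_of_mul_eq_one_left e'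
      rw [this]
      exact inv_mem ((hOmem _).1 m.1.2).1
    · have h := hHmem.1 ((hOmem _).1 m.1.2).1
      calc u * (m.1 : G) * w * (u * m.1)⁻¹ = u * ((m.1 : G) * w) * (m.1 : G)⁻¹ * u⁻¹ := by group
        _ = u * w * u⁻¹ := by rw [h]; group
        _ = w⁻¹ := hu
    · show u * (u * (m.1 : G)) ∈ O
      rw [← mul_assoc, huu, one_mul]; exact m.1.2
    · show u * (u * x.1) = x.1
      rw [← mul_assoc, huu, one_mul]
    · show u * (u * (m.1 : G)) = m.1
      rw [← mul_assoc, huu, one_mul]
  have hnotH : ∀ u, u * w * u⁻¹ = w⁻¹ → u ∉ H := fun u hu hH' => by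
    have : w = w⁻¹ := by
      rw [← hu, hHmem.1 hH']; group
    have h2 : w ^ 2 = 1 := by rw [pow_two]; nth_rw 2 [this]; exact mul_inv_cancel w
    have := orderOf_dvd_of_pow_eq_one h2
    rw [hw3] at this
    norm_num at this
  calc Nat.card {x : G // orderOf x = 2 ∧ x * w * x⁻¹ = w⁻¹}
      = Nat.card ({x : G // (orderOf x = 2 ∧ x * w * x⁻¹ = w⁻¹) ∧ v * x ∈ O} ⊕
          {x : G // (orderOf x = 2 ∧ x * w * x⁻¹ = w⁻¹) ∧ v' * x ∈ O}) := by
        refine (Nat.card_congr (Equiv.ofBijective (Sum.elim (fun x => ⟨x.1, x.2.1⟩)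
          (fun x => ⟨x.1, x.2.1⟩)) ⟨?_, ?_⟩)).symm
        · rintro (a | a) (b | b) h <;> simp only [Sum.elim_inl, Sum.elim_inr, Subtype.mk.injEq] at h
          · exact congrArg Sum.inl (Subtype.ext h)
          · exact absurd ⟨a.2.2, h ▸ b.2.2⟩ (hsame a.1)
          · exact absurd ⟨b.2.2, h ▸ a.2.2⟩ (hsame b.1)
          · exact congrArg Sum.inr (Subtype.ext h)
        · rintro ⟨x, hx⟩
          rcases hcases x hx.2 with h | h
          · exact ⟨Sum.inl ⟨x, hx, h⟩, rfl⟩
          · exact ⟨Sum.inr ⟨x, hx, h⟩, rfl⟩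
    _ = _ := by
        rw [Nat.card_sum, hpart v hvw hvv (hnotH v hvw), hpart v' hv'w hv'v' (hnotH v' hv'w)]
        have hpos : ∀ u, 0 < Nat.card (A u) := fun u => Nat.card_pos
        have e1 : Nat.card {x : O // τ v hvu x = x⁻¹} = 3 * Nat.card (A v') :=
          Nat.eq_of_mul_eq_mul_right (hpos v) (by rw [hinvcard v hvu hvv, hOabc]; ring)
        have e2 : Nat.card {x : O // τ v' hv'u x = x⁻¹} = 3 * Nat.card (A v) :=
          Nat.eq_of_mul_eq_mul_right (hpos v') (by rw [hinvcard v' hv'u hv'v', hOabc]; ring)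
        rw [e1, e2]; ring

end Cfsg.Lib.J1Order.Local
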